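import Mathlib
import Cfsg.Agent.HHShult.Basic

/-!
Sections of a group with an automorphism of coprime prime order: images of invariant subgroups, lifting of
fixed points.
-/

set_option autoImplicit false
set_option linter.style.haveILetI false
set_option linter.unusedSectionVars false

namespace CfsgLib.CoprimeLayer

open Subgroup CfsgLib.HHShult
open scoped commutatorElement

universe u

variable {G : Type u} [Group G]

/-- A perfect solvable subgroup is trivial. -/
theorem eq_bot_of_perfect {M : Subgroup G} (hM : ⁅M, M⁆ = M) (hs : Group.IsSolvable M) : M = ⊥ := by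
  by_contra h
  haveI : Nontrivial M := (Subgroup.nontrivial_iff_ne_bot M).2 h
  haveI : Group.IsPerfect M := Subgroup.isPerfect_iff.mpr hM
  exact Group.IsPerfect.not_isSolvable M hs

/-- A perfect `p`-subgroup is trivial. -/
theorem eq_bot_of_perfect_isPGroup [Finite G] {p : ℕ} [Fact p.Prime] {M : Subgroup G} (hM : ⁅M, M⁆ = M)
    (hp : IsPGroup p M) : M = ⊥ := by
  haveI := hp.isNilpotent
  exact eq_bot_of_perfect hM inferInstance

theorem normalizer_le_normalizer_centralizer' (B : Subgroup G) :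
    normalizer (B : Set G) ≤ normalizer ((centralizer (B : Set G) : Subgroup G) : Set G) := by
  have key : ∀ g ∈ normalizer (B : Set G), ∀ x ∈ centralizer (B : Set G), g * x * g⁻¹ ∈ centralizer (B : Set G) := by
    intro g hg x hx
    refine mem_centralizer_iff.2 fun b hb => ?_
    have h1 := mem_centralizer_iff.1 hx _ ((mem_normalizer_iff''.1 hg b).1 hb)
    calc b * (g * x * g⁻¹) = g * ((g⁻¹ * b * g) * x) * g⁻¹ := by group
      _ = g * (x * (g⁻¹ * b * g)) * g⁻¹ := by rw [h1]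
      _ = g * x * g⁻¹ * b := by group
  intro g hg
  refine mem_normalizer_iff.2 fun x => ⟨key g hg x, fun hx => ?_⟩
  have h1 := key g⁻¹ (inv_mem hg) _ hx
  rwa [show g⁻¹ * (g * x * g⁻¹) * g⁻¹⁻¹ = x by group] at h1

theorem perfect_map {H : Type*} [Group H] (f : G →* H) {M : Subgroup G} (hM : ⁅M, M⁆ = M) :
    ⁅M.map f, M.map f⁆ = M.map f := by
  rw [← map_commutator, hM]

variable [Finite G]

theorem stable_map {H : Type*} [Group H] {σ : MulAut G} {τ : MulAut H} (f : G →* H)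
    (hf : ∀ x, f (σ x) = τ (f x)) {K : Subgroup G} (hK : Stable σ K) : Stable τ (K.map f) := by
  rintro _ ⟨x, hx, rfl⟩
  exact ⟨σ x, hK x hx, hf x⟩

theorem map_moved {H : Type*} [Group H] [Finite H] {σ : MulAut G} {τ : MulAut H} (f : G →* H)
    (hf : ∀ x, f (σ x) = τ (f x)) (K : Subgroup G) : (moved σ K).map f = moved τ (K.map f) := by
  refine le_antisymm (map_le_iff_le_comap.2 (moved_le_iff.2 fun x hx => ?_)) (moved_le_iff.2 ?_)
  · rw [mem_comap, map_mul, map_inv, hf]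
    exact mem_moved (mem_map_of_mem f hx)
  · rintro _ ⟨x, hx, rfl⟩
    exact ⟨x⁻¹ * σ x, mem_moved hx, by rw [map_mul, map_inv, hf]⟩

/-- The commutator of stable subgroups is stable. -/
theorem stable_commutator {σ : MulAut G} {A B : Subgroup G} (hA : Stable σ A) (hB : Stable σ B) :
    Stable σ ⁅A, B⁆ := fun x hx => by
  have h : (⁅A, B⁆).map σ.toMonoidHom ≤ ⁅A, B⁆ := by
    rw [map_commutator]
    exact commutator_mono (map_le_iff_le_comap.2 hA) (map_le_iff_le_comap.2 hB)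
  exact h ⟨x, hx, rfl⟩

variable {σ : MulAut G} {H : Subgroup G} {Q : Type u} [Group Q] {τ : MulAut Q} {π : ↥H →* Q}

/-- The image in a section. -/
def img (π : ↥H →* Q) (Y : Subgroup G) : Subgroup Q := (Y.subgroupOf H).map π

theorem mem_img {Y : Subgroup G} {y : Q} : y ∈ img π Y ↔ ∃ x : H, (x : G) ∈ Y ∧ π x = y := Iff.rfl

theorem mem_img_of {Y : Subgroup G} (x : H) (hx : (x : G) ∈ Y) : π x ∈ img π Y := ⟨x, hx, rfl⟩

theorem img_mono {Y Z : Subgroup G} (h : Y ≤ Z) : img π Y ≤ img π Z := fun _ ⟨x, hx, e⟩ => ⟨x, h hx, e⟩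

theorem img_commutator {A B : Subgroup G} (hA : A ≤ H) (hB : B ≤ H) :
    img π ⁅A, B⁆ = ⁅img π A, img π B⁆ := by
  unfold img
  rw [← map_commutator]
  congr 1
  refine map_injective H.subtype_injective ?_
  rw [map_commutator, map_subgroupOf_eq_of_le hA, map_subgroupOf_eq_of_le hB,
    map_subgroupOf_eq_of_le ((commutator_mono hA hB).trans (commutator_le.2 fun a ha b hb =>
      mul_mem (mul_mem (mul_mem ha hb) (inv_mem ha)) (inv_mem hb)))]

theorem img_perfect {M : Subgroup G} (hMH : M ≤ H) (hM : ⁅M, M⁆ = M) : ⁅img π M, img π M⁆ = img π M := by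
  rw [← img_commutator hMH hMH, hM]

theorem img_le_normalizer {A B : Subgroup G} (hAH : A ≤ H) (hn : A ≤ normalizer (B : Set G)) :
    img π A ≤ normalizer ((img π B : Subgroup Q) : Set Q) := by
  rintro _ ⟨a, ha, rfl⟩
  refine le_normalizer_map π ⟨a, mem_normalizer_iff.2 fun x => ?_, rfl⟩
  exact mem_normalizer_iff.1 (hn ha) (x : G)

theorem img_le_centralizer {A B : Subgroup G} (hc : A ≤ centralizer (B : Set G)) :
    img π A ≤ centralizer ((img π B : Subgroup Q) : Set Q) := by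
  rintro _ ⟨a, ha, rfl⟩
  refine mem_centralizer_iff.2 ?_
  rintro _ ⟨b, hb, rfl⟩
  rw [← map_mul, ← map_mul]
  exact congrArg π (Subtype.ext (mem_centralizer_iff.1 (hc ha) b hb))

section

variable [Finite Q] (hH : Stable σ H) (hπ : ∀ x : H, π ⟨σ x, hH x x.2⟩ = τ (π x))
include hπ

theorem img_stable {Y : Subgroup G} (hY : Stable σ Y) : Stable τ (img π Y) := by
  rintro _ ⟨x, hx, rfl⟩
  exact ⟨⟨σ x, hH x x.2⟩, hY x hx, hπ x⟩

theorem img_moved {Y : Subgroup G} (hYH : Y ≤ H) : moved τ (img π Y) = img π (moved σ Y) := by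
  refine le_antisymm (moved_le_iff.2 ?_) ?_
  · rintro _ ⟨x, hx, rfl⟩
    refine ⟨x⁻¹ * ⟨σ x, hH x x.2⟩, (mem_moved (σ := σ) (show (x : G) ∈ Y from hx) : _), ?_⟩
    rw [map_mul, map_inv, hπ]
  · have h1 : moved σ Y ≤ ((moved τ (img π Y)).comap π).map H.subtype := moved_le_iff.2 fun x hx => by
      refine ⟨(⟨x, hYH hx⟩ : H)⁻¹ * ⟨σ x, hH x (hYH hx)⟩, ?_, rfl⟩
      rw [SetLike.mem_coe, mem_comap, map_mul, map_inv, hπ ⟨x, hYH hx⟩]
      exact mem_moved (mem_img_of _ hx)
    rintro _ ⟨x, hx, rfl⟩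
    obtain ⟨x', hx', e⟩ := h1 (hx : (x : G) ∈ moved σ Y)
    rw [← Subtype.ext e]
    exact hx'

/-- Fixed points of the image of a stable subgroup lift to fixed points. -/
theorem exists_fixed_lift {r : ℕ} (hcop : CopAut σ r) {N : Subgroup G} (hN : Stable σ N)
    (hker : ∀ x : H, π x = 1 ↔ (x : G) ∈ N) {Y : Subgroup G} (hY : Stable σ Y) (hYH : Y ≤ H) {y : Q}
    (hy : y ∈ img π Y) (hfix : τ y = y) :
    ∃ c : G, ∃ hc : c ∈ Y, σ c = c ∧ π ⟨c, hYH hc⟩ = y := by
  obtain ⟨x, hx, rfl⟩ := hy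
  have h1 : (x : G)⁻¹ * σ x ∈ N := (hker (x⁻¹ * ⟨σ x, hH x x.2⟩)).1 (by
    rw [map_mul, map_inv, hπ, hfix, inv_mul_cancel])
  obtain ⟨c, hc, hxc⟩ := hcop.fixed_in_coset (hY.inf hN) (g := (x : G))
    (mem_inf.2 ⟨Y.mul_mem (Y.inv_mem hx) (hY _ hx), h1⟩)
  have hcY : c ∈ Y := by simpa using Y.mul_mem hx (mem_inf.1 hxc).1
  refine ⟨c, hcY, hc, (inv_mul_eq_one.1 ?_).symm⟩
  rw [← map_inv, ← map_mul]
  exact (hker _).2 hxc.2

end

/-- The quotient of a stable subgroup by a stable subgroup it normalizes. -/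
theorem exists_section {r : ℕ} (hcop : CopAut σ r) {H N : Subgroup G} (hH : Stable σ H) (hN : Stable σ N)
    (hn : H ≤ normalizer (N : Set G)) :
    ∃ (Q : Type u) (_ : Group Q) (_ : Finite Q) (τ : MulAut Q) (π : ↥H →* Q),
      CopAut τ r ∧ Function.Surjective π ∧ (∀ x : H, π x = 1 ↔ (x : G) ∈ N) ∧
        ∀ x : H, π ⟨σ x, hH x x.2⟩ = τ (π x) := by
  haveI : (N.subgroupOf H).Normal :=
    ⟨fun x hx g => (mem_normalizer_iff.1 (hn g.2) (x : G)).1 hx⟩
  let σH : MulAut H := MulEquiv.ofBijective ((σ.toMonoidHom.comp H.subtype).codRestrict H fun x => hH x x.2)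
    (Finite.injective_iff_bijective.1 fun a b e => Subtype.ext (σ.injective (congrArg Subtype.val e)))
  have hcH : CopAut σH r := hcop.restrict H σH fun _ => rfl
  have hs : Stable σH (N.subgroupOf H) := fun x hx => hN (x : G) hx
  let τ : MulAut (↥H ⧸ N.subgroupOf H) := QuotientGroup.congr (N.subgroupOf H) (N.subgroupOf H) σH hs.map_eq
  have hτ : ∀ (n : ℕ) (x : H), (τ ^ n) (x : ↥H ⧸ N.subgroupOf H) = (((σH ^ n) x : H) : ↥H ⧸ N.subgroupOf H) := by
    intro n
    induction n with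
    | zero => intro x; rfl
    | succ n ih => intro x; rw [pow_succ', pow_succ', MulAut.mul_apply, MulAut.mul_apply, ih]; rfl
  refine ⟨↥H ⧸ N.subgroupOf H, inferInstance, inferInstance, τ, QuotientGroup.mk' _,
    ⟨hcop.prime, MulEquiv.ext fun y => QuotientGroup.induction_on y fun x => by rw [hτ, hcH.pow_eq]; rfl, ?_⟩,
    QuotientGroup.mk'_surjective _, fun x => ?_, fun x => rfl⟩
  · exact fun hd => hcH.cop (hd.trans (card_quotient_dvd_card _))
  · exact (QuotientGroup.eq_one_iff x).trans Iff.rfl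

end CfsgLib.CoprimeLayer
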