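import Mathlib
import Cfsg.Agent.CoprimeLayer.Basic
import Cfsg.Agent.Comp.Layer
import Cfsg.Agent.Kinf.LocalBalance
import Cfsg.Agent.FGSA.ThompsonNil

/-!
Components permuted by an automorphism of prime order: diagonal fixed elements, fixed points of the stable ones.
-/

set_option autoImplicit false
set_option linter.style.haveILetI false
set_option linter.unusedSectionVars false

namespace CfsgLib.CoprimeLayer

open Subgroup CfsgLib.HHShult CfsgLib
open scoped commutatorElement Pointwise

universe u

variable {G : Type u} [Group G] [Finite G] {σ : MulAut G} {r : ℕ}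

/-- A perfect stable subgroup all of whose fixed points are central is trivial. -/
theorem eq_bot_of_fixed_central (hcop : CopAut σ r) {M : Subgroup G} (hMs : Stable σ M) (hM : ⁅M, M⁆ = M)
    (hfix : ∀ x ∈ M, σ x = x → x ∈ centralizer (M : Set G)) : M = ⊥ := by
  have hZs : Stable σ (M ⊓ centralizer (M : Set G)) :=
    hMs.inf (Stable.centralizer fun y hy z hz => hMs.mem_iff.1 (hz ▸ hy))
  obtain ⟨Q, _, _, τ, π, hcτ, hsurj, hker, hπ⟩ := exists_section hcop hMs hZs
    ((le_inf le_normalizer (le_normalizer.trans (normalizer_le_normalizer_centralizer' M))).trans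
      inf_normalizer_le_normalizer_inf)
  have htop : img π M = ⊤ := by rw [img, subgroupOf_self, Subgroup.map_top_of_surjective π hsurj]
  have hnil : Group.IsNilpotent Q := ThompsonNil.isNilpotent hcτ.prime τ hcτ.pow_eq fun y hy => by
    obtain ⟨c, hc, hσc, rfl⟩ := exists_fixed_lift hMs hπ hcop hZs hker hMs le_rfl (htop.ge (mem_top y)) hy
    exact (hker _).2 ⟨hc, hfix c hc hσc⟩
  haveI := hnil
  have hQ : (⊤ : Subgroup Q) = ⊥ := by
    rw [← htop]
    exact eq_bot_of_perfect (img_perfect le_rfl hM) inferInstance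
  have hMC : M ≤ centralizer (M : Set G) := fun x hx => by
    have h1 : π ⟨x, hx⟩ ∈ (⊥ : Subgroup Q) := hQ ▸ mem_top _
    exact ((hker _).1 (mem_bot.1 h1)).2
  rw [← hM]
  exact commutator_eq_bot_iff_le_centralizer.2 hMC

/-- A stable component has a fixed element outside its centre. -/
theorem exists_fixed_not_central (hcop : CopAut σ r) {L : Subgroup G} (hL : Cfsg.IsComponent L) (hLs : Stable σ L) :
    ∃ u ∈ L, σ u = u ∧ u ∉ centralizer (L : Set G) := by
  by_contra hcon
  push Not at hcon
  exact Comp.component_ne_bot hL (eq_bot_of_fixed_central hcop hLs (Comp.component_perfect hL) hcon)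

theorem component_pow (n : ℕ) {L : Subgroup G} (hL : Cfsg.IsComponent L) :
    Cfsg.IsComponent (L.map (σ ^ n).toMonoidHom) := Comp.component_map_equiv _ hL

theorem map_pow_succ (n : ℕ) (L : Subgroup G) :
    L.map (σ ^ (n + 1)).toMonoidHom = (L.map (σ ^ n).toMonoidHom).map σ.toMonoidHom := by
  rw [map_map, pow_succ']
  rfl

theorem stable_of_map_eq {L : Subgroup G} (h : L.map σ.toMonoidHom = L) : Stable σ L :=
  fun x hx => h.le ⟨x, hx, rfl⟩

/-- A component moved by the automorphism has distinct images under the powers below the order. -/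
theorem map_pow_ne (hcop : CopAut σ r) {L : Subgroup G} (hLm : L.map σ.toMonoidHom ≠ L) {i : ℕ} (hi : 0 < i)
    (hir : i < r) : L.map (σ ^ i).toMonoidHom ≠ L := by
  intro h
  have hco : i.Coprime (orderOf σ) :=
    (((hcop.prime.coprime_iff_not_dvd).2 (Nat.not_dvd_of_pos_of_lt hi hir)).symm).coprime_dvd_right
      (orderOf_dvd_of_pow_eq_one hcop.pow_eq)
  obtain ⟨m, hm⟩ := exists_pow_eq_self_of_coprime hco
  refine hLm ?_
  rw [← hm]
  clear hm
  induction m with
  | zero => exact L.map_id
  | succ m ih =>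
    rw [pow_succ']
    show L.map ((σ ^ i).toMonoidHom.comp ((σ ^ i) ^ m).toMonoidHom) = L
    rw [← map_map, ih, h]

theorem pow_mod_eq (hcop : CopAut σ r) (n : ℕ) : σ ^ n = σ ^ (n % r) := by
  conv_lhs => rw [← Nat.div_add_mod n r]
  rw [pow_add, pow_mul, hcop.pow_eq, one_pow, one_mul]

/-- The product of the images of an element under the first `n` powers. -/
def diag (σ : MulAut G) (l : G) : ℕ → G
  | 0 => 1
  | n + 1 => diag σ l n * (σ ^ n) l

theorem apply_diag (l : G) (n : ℕ) : σ (diag σ l n) = l⁻¹ * diag σ l (n + 1) := by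
  induction n with
  | zero => simp [diag]
  | succ n ih =>
    rw [diag, map_mul, ih, ← MulAut.mul_apply, ← pow_succ']
    show _ = l⁻¹ * (diag σ l (n + 1) * (σ ^ (n + 1)) l)
    rw [mul_assoc]

theorem diag_mem {S : Subgroup G} {l : G} {n : ℕ} (h : ∀ i < n, (σ ^ i) l ∈ S) : diag σ l n ∈ S := by
  induction n with
  | zero => exact one_mem _
  | succ n ih => exact mul_mem (ih fun i hi => h i (hi.trans n.lt_succ_self)) (h n n.lt_succ_self)

section moved

variable (hcop : CopAut σ r) {L : Subgroup G} (hL : Cfsg.IsComponent L) (hLm : L.map σ.toMonoidHom ≠ L)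
include hcop hL hLm

theorem pow_mem_centralizer {i : ℕ} (hi : 0 < i) (hir : i < r) {l : G} (hl : l ∈ L) :
    (σ ^ i) l ∈ centralizer (L : Set G) := by
  exact Comp.le_centralizer_of_commutator_eq_bot
    ((Comp.component_eq_or_commute (component_pow i hL) hL).resolve_left (map_pow_ne hcop hLm hi hir))
    (mem_map_of_mem (σ ^ i).toMonoidHom hl)

theorem inv_mul_diag {l : G} (hl : l ∈ L) : l⁻¹ * diag σ l r ∈ centralizer (L : Set G) := by
  have key : ∀ n, n < r → l⁻¹ * diag σ l (n + 1) ∈ centralizer (L : Set G) := by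
    intro n
    induction n with
    | zero => intro _; simp [diag]
    | succ n ih =>
      intro hn
      show l⁻¹ * (diag σ l (n + 1) * (σ ^ (n + 1)) l) ∈ _
      rw [← mul_assoc]
      exact mul_mem (ih (by omega)) (pow_mem_centralizer hcop hL hLm n.succ_pos hn hl)
  have h0 := hcop.prime.pos
  have h1 := key (r - 1) (by omega)
  rwa [show r - 1 + 1 = r by omega] at h1

theorem apply_diag_self {l : G} (hl : l ∈ L) : σ (diag σ l r) = diag σ l r := by
  have h1 := mem_centralizer_iff.1 (inv_mul_diag hcop hL hLm hl) l hl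
  rw [apply_diag, show diag σ l (r + 1) = diag σ l r * (σ ^ r) l from rfl, hcop.pow_eq, MulAut.one_apply,
    ← mul_assoc, ← h1, mul_inv_cancel_left]

theorem diag_mem_layer {l : G} (hl : l ∈ L) : diag σ l r ∈ Cfsg.layer G :=
  diag_mem fun i _ => Comp.component_le_layer (component_pow i hL) ⟨l, hl, rfl⟩

/-- A diagonal element read in any member of the orbit. -/
theorem inv_mul_diag_pow (i : ℕ) {l : G} (hl : l ∈ L) :
    ((σ ^ i) l)⁻¹ * diag σ l r ∈ centralizer ((L.map (σ ^ i).toMonoidHom : Subgroup G) : Set G) := by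
  have h1 := pow_apply_fixed (apply_diag_self hcop hL hLm hl) i
  rw [← h1, ← map_inv, ← map_mul, mem_centralizer_iff]
  rintro _ ⟨x, hx, rfl⟩
  show (σ ^ i) x * _ = _ * (σ ^ i) x
  rw [← map_mul, ← map_mul, mem_centralizer_iff.1 (inv_mul_diag hcop hL hLm hl) x hx]

/-- A component outside the orbit commutes with the diagonal elements. -/
theorem commute_diag_of_ne {J : Subgroup G} (hJ : Cfsg.IsComponent J)
    (hne : ∀ i, L.map (σ ^ i).toMonoidHom ≠ J) {l : G} (hl : l ∈ L) : diag σ l r ∈ centralizer (J : Set G) :=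
  diag_mem fun i _ => Comp.le_centralizer_of_commutator_eq_bot
    ((Comp.component_eq_or_commute (component_pow i hL) hJ).resolve_left (hne i)) ⟨l, hl, rfl⟩

end moved

end CfsgLib.CoprimeLayer
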