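import Mathlib
import Cfsg.Agent.CoprimeLayer.Basic
import Cfsg.Agent.HHShultGen.Shult
import Cfsg.Agent.ZJ.ConjModule
import Cfsg.Agent.StDefZero.Lemmas

/-!
A perfect group of displacements centralizes an invariant `p`-group as soon as it centralizes the fixed points.
-/

set_option autoImplicit false
set_option linter.style.haveILetI false
set_option linter.unusedSectionVars false

namespace CfsgLib.CoprimeLayer

open Subgroup CfsgLib.HHShult
open scoped commutatorElement

universe u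

variable {G : Type u} [Group G] [Finite G] {σ : MulAut G} {r p : ℕ} [hp' : Fact p.Prime]

/-- The irreducible fixed-point-free case. -/
theorem centralizes_irreducible (hcop : CopAut σ r) {K P : Subgroup G} (hKs : Stable σ K) (hK : ⁅K, K⁆ = K)
    (hKm : moved σ K = K) (hP : Cfsg.IsElementaryAbelian p P) (hPs : Stable σ P) (hKP : K ≤ normalizer (P : Set G))
    (hmin : ∀ W : Subgroup G, W ≤ P → Stable σ W → K ≤ normalizer (W : Set G) → W = ⊥ ∨ W = P)
    (hfpf : ∀ x ∈ P, σ x = x → x = 1) : K ≤ centralizer (P : Set G) := by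
  classical
  by_cases hPb : P = ⊥
  · intro k _
    refine mem_centralizer_iff.2 fun x hx => ?_
    rw [hPb] at hx
    rw [show x = 1 from hx, one_mul, mul_one]
  haveI : Nontrivial (ZJ.ElabMod P hP) := by
    haveI := (Subgroup.nontrivial_iff_ne_bot P).2 hPb
    exact (inferInstance : Nontrivial (Additive P))
  haveI : FiniteDimensional (ZMod p) (ZJ.ElabMod P hP) := Module.Finite.of_finite
  let π0 : ↥K →* Module.End (ZMod p) (ZJ.ElabMod P hP) := (ZJ.conjEnd hP).comp (Subgroup.inclusion hKP)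
  have hπ0 : ∀ k : K, π0 k = 1 ↔ (k : G) ∈ centralizer (P : Set G) := fun k =>
    ZJ.conjEnd_eq_one_iff hP (Subgroup.inclusion hKP k)
  have hval : ∀ (k : K) (x : ZJ.ElabMod P hP),
      ((ZJ.ofVec hP (π0 k x) : P) : G) = (k : G) * (ZJ.ofVec hP x : G) * (k : G)⁻¹ := fun k x =>
    ZJ.ofVec_conjEnd hP (Subgroup.inclusion hKP k) x
  let φ : Module.End (ZMod p) (ZJ.ElabMod P hP) := AddMonoidHom.toZModLinearMap p
    ({ toFun := fun x => ZJ.toVec hP ⟨σ (ZJ.ofVec hP x : G), hPs _ (ZJ.ofVec hP x).2⟩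
       map_zero' := ZJ.ofVec_injective hP (Subtype.ext (map_one σ))
       map_add' := fun x y => ZJ.ofVec_injective hP (Subtype.ext (map_mul σ _ _)) } :
      ZJ.ElabMod P hP →+ ZJ.ElabMod P hP)
  have hφ : ∀ x, ((ZJ.ofVec hP (φ x) : P) : G) = σ (ZJ.ofVec hP x : G) := fun x => rfl
  have hφn : ∀ (n : ℕ) (x), ((ZJ.ofVec hP ((φ ^ n) x) : P) : G) = (σ ^ n) (ZJ.ofVec hP x : G) := by
    intro n
    induction n with
    | zero => intro x; rfl
    | succ n ih => intro x; rw [pow_succ', pow_succ', Module.End.mul_apply, MulAut.mul_apply, hφ, ih]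
  set N := π0.ker with hN
  let σK : MulAut K := MulEquiv.ofBijective ((σ.toMonoidHom.comp K.subtype).codRestrict K fun x => hKs x x.2)
    (Finite.injective_iff_bijective.1 fun a b e => Subtype.ext (σ.injective (congrArg Subtype.val e)))
  have hσK : ∀ x : K, ((σK x : K) : G) = σ x := fun _ => rfl
  have hNs : Stable σK N := by
    intro x hx
    rw [hN, MonoidHom.mem_ker, hπ0] at hx ⊢
    rw [hσK, mem_centralizer_iff]
    intro y hy
    obtain ⟨z, rfl⟩ := σ.surjective y
    rw [← map_mul, ← map_mul, mem_centralizer_iff.1 hx z (hPs.mem_iff.1 hy)]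
  let τ : MulAut (↥K ⧸ N) := QuotientGroup.congr N N σK hNs.map_eq
  have hτ : ∀ x : K, τ (x : ↥K ⧸ N) = ((σK x : K) : ↥K ⧸ N) := fun _ => rfl
  have hτn : ∀ (n : ℕ) (x : K), (τ ^ n) (x : ↥K ⧸ N) = (((σK ^ n) x : K) : ↥K ⧸ N) := by
    intro n
    induction n with
    | zero => intro x; rfl
    | succ n ih => intro x; rw [pow_succ', pow_succ', MulAut.mul_apply, MulAut.mul_apply, ih, hτ]
  have hcK : CopAut σK r := hcop.restrict K σK hσK
  have hcτ : CopAut τ r := ⟨hcop.prime,
    MulEquiv.ext fun y => QuotientGroup.induction_on y fun x => by rw [hτn, hcK.pow_eq]; rfl,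
    fun hd => hcK.cop (hd.trans (card_quotient_dvd_card _))⟩
  let ρ : ↥K ⧸ N →* Module.End (ZMod p) (ZJ.ElabMod P hP) := QuotientGroup.lift N π0 le_rfl
  have hinj : Function.Injective ρ := (injective_iff_map_eq_one _).2 fun y => QuotientGroup.induction_on y
    fun x hx => (QuotientGroup.eq_one_iff x).2 (MonoidHom.mem_ker.2 hx)
  have hff : FixFree τ r ρ φ := by
    refine ⟨hcτ, fun y => QuotientGroup.induction_on y fun k => LinearMap.ext fun v => ?_,
      LinearMap.ext fun v => ?_, fun v hv => ?_⟩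
    · refine ZJ.ofVec_injective hP (Subtype.ext ?_)
      rw [hφn, hcop.pow_eq]; rfl
    · refine ZJ.ofVec_injective hP (Subtype.ext (hfpf _ (ZJ.ofVec hP v).2 ?_))
      rw [← hφ, hv]
    · refine ZJ.ofVec_injective hP (Subtype.ext ?_)
      rw [Module.End.mul_apply, Module.End.mul_apply, hτ, QuotientGroup.lift_mk, QuotientGroup.lift_mk, hφ, hval,
        hval, hσK, hφ, map_mul, map_mul, map_inv]
  have hrk : (r : ZMod p) ≠ 0 := natCast_ne_zero_of_fixFree hcop.prime hff.pow_eq hff.fixed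
  have hno : ∀ A : Subgroup (↥K ⧸ N), A.Normal → Stable τ A → IsPGroup p A → A = ⊥ := by
    intro A hAn hAs hA
    set A0 := (A.comap (QuotientGroup.mk' N)).map K.subtype with hA0
    have hmem : ∀ k : K, (k : ↥K ⧸ N) ∈ A → (k : G) ∈ A0 := fun k hk => ⟨k, hk, rfl⟩
    have hA0n : K ≤ normalizer (A0 : Set G) := fun x hx => by
      haveI : (A.comap (QuotientGroup.mk' N)).Normal := hAn.comap _
      exact le_normalizer_map K.subtype ⟨⟨x, hx⟩, by rw [normalizer_eq_top]; exact mem_top _, rfl⟩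
    have hA0s : Stable σ A0 := by
      rintro _ ⟨k, hk, rfl⟩
      exact ⟨σK k, by rw [SetLike.mem_coe, mem_comap]; exact (hAs _ hk : _), rfl⟩
    have hWs : Stable σ (P ⊓ centralizer (A0 : Set G)) := hPs.inf
      (Stable.centralizer fun y hy z hz => hA0s.mem_iff.1 (hz ▸ hy))
    have hWn : K ≤ normalizer ((P ⊓ centralizer (A0 : Set G) : Subgroup G) : Set G) :=
      (le_inf hKP (hA0n.trans (normalizer_le_normalizer_centralizer' A0))).trans inf_normalizer_le_normalizer_inf
    obtain ⟨w, hw⟩ := exists_ne (0 : ZJ.ElabMod P hP)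
    obtain ⟨z, -, hz0, hz⟩ := CfsgLib.DefectZero.exists_fixed_ne_zero hA (ρ.comp A.subtype) ⊤
      (fun _ _ _ => Submodule.mem_top) (w := w) Submodule.mem_top hw
    rcases hmin _ inf_le_left hWs hWn with hb | htop
    · refine absurd ?_ hz0
      refine ZJ.ofVec_injective hP (Subtype.ext ((Subgroup.eq_bot_iff_forall _).1 hb _ ⟨(ZJ.ofVec hP z).2, ?_⟩))
      refine mem_centralizer_iff.2 ?_
      rintro _ ⟨k, hk, rfl⟩
      have h1 : π0 k z = z := hz ⟨_, hk⟩
      have h2 := hval k z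
      rw [h1] at h2
      exact (mul_inv_eq_iff_eq_mul.1 h2.symm)
    · refine (Subgroup.eq_bot_iff_forall A).2 fun y => QuotientGroup.induction_on y fun k hk => ?_
      refine (QuotientGroup.eq_one_iff k).2 ((hπ0 k).2 (mem_centralizer_iff.2 fun x hx => ?_))
      have h1 : x ∈ centralizer (A0 : Set G) := (mem_inf.1 (htop.ge hx)).2
      exact (mem_centralizer_iff.1 h1 (k : G) (hmem k hk)).symm
  have hm : moved τ (⊤ : Subgroup (↥K ⧸ N)) = ⊤ := by
    have h1 : moved σK (⊤ : Subgroup K) = ⊤ := by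
      refine map_injective K.subtype_injective ?_
      rw [map_moved (σ := σK) (τ := σ) K.subtype hσK, ← MonoidHom.range_eq_map, range_subtype, hKm]
    have h2 : (⊤ : Subgroup K).map (QuotientGroup.mk' N) = ⊤ :=
      Subgroup.map_top_of_surjective _ (QuotientGroup.mk'_surjective N)
    have h3 := map_moved (σ := σK) (τ := τ) (QuotientGroup.mk' N) (fun x => (hτ x).symm) (⊤ : Subgroup K)
    rw [h1, h2] at h3
    exact h3.symm
  have hperf : ⁅(⊤ : Subgroup (↥K ⧸ N)), (⊤ : Subgroup (↥K ⧸ N))⁆ = ⊤ := by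
    rw [← Subgroup.map_top_of_surjective (QuotientGroup.mk' N) (QuotientGroup.mk'_surjective N), ← map_commutator]
    congr 1
    refine map_injective K.subtype_injective ?_
    rw [map_commutator, ← MonoidHom.range_eq_map, range_subtype, hK]
  have htriv : (⊤ : Subgroup (↥K ⧸ N)) = ⊥ := by
    rcases HHShultGen.moved_top_special (p := p) ρ φ hinj hff hrk hno with h | ⟨-, h⟩
    · rw [← hm, h]
    · haveI : Fact (Nat.Prime 2) := ⟨Nat.prime_two⟩
      rw [hm] at h
      exact eq_bot_of_perfect_isPGroup (p := 2) hperf h.isP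
  intro k hk
  have h1 : ((⟨k, hk⟩ : K) : ↥K ⧸ N) ∈ (⊥ : Subgroup (↥K ⧸ N)) := htriv ▸ mem_top _
  exact (hπ0 ⟨k, hk⟩).1 (MonoidHom.mem_ker.1 ((QuotientGroup.eq_one_iff _).1 h1))

/-- A perfect invariant group of displacements centralizing the fixed points of an invariant `p`-group it
normalizes centralizes the whole `p`-group. -/
theorem centralizes_of_fixed (n : ℕ) : ∀ {G : Type u} [Group G] [Finite G] {σ : MulAut G} {r : ℕ}
    (_ : CopAut σ r) {K P : Subgroup G}, Nat.card P ≤ n → Stable σ K → ⁅K, K⁆ = K → moved σ K = K → IsPGroup p P →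
    Stable σ P → K ≤ normalizer (P : Set G) → (∀ x ∈ P, σ x = x → ∀ k ∈ K, Commute k x) →
    K ≤ centralizer (P : Set G) := by
  induction n using Nat.strong_induction_on with
  | _ n ih =>
  intro G _ _ σ r hcop K P hn hKs hK hKm hP hPs hKP hfix
  classical
  by_cases hPb : P = ⊥
  · intro k _
    refine mem_centralizer_iff.2 fun x hx => ?_
    rw [hPb] at hx
    rw [show x = 1 from hx, one_mul, mul_one]
  obtain ⟨P0, ⟨hP0P, hP0s, hP0n, hKP0⟩, hP0max⟩ := (Set.toFinite {W : Subgroup G |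
      W < P ∧ Stable σ W ∧ P ≤ normalizer (W : Set G) ∧ K ≤ normalizer (W : Set G)}).exists_maximal
    ⟨⊥, bot_lt_iff_ne_bot.2 hPb, fun x hx => by rw [mem_bot] at hx ⊢; rw [hx, map_one],
      by rw [normalizer_eq_top]; exact le_top, by rw [normalizer_eq_top]; exact le_top⟩
  have hK0 : K ≤ centralizer (P0 : Set G) := by
    refine ih (Nat.card P0) (lt_of_lt_of_le ?_ hn) hcop le_rfl hKs hK hKm (hP.to_le hP0P.le) hP0s hKP0
      fun x hx => hfix x (hP0P.le hx)
    refine lt_of_le_of_ne (Subgroup.card_le_of_le hP0P.le) fun e => hP0P.ne ?_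
    exact Subgroup.eq_of_le_of_card_ge hP0P.le e.ge
  set H := normalizer (P0 : Set G) with hHdef
  obtain ⟨Q, _, _, τ, π, hcτ, -, hker, hπ⟩ := exists_section hcop hP0s.normalizer hP0s
    (le_refl (normalizer (P0 : Set G)))
  have hHs : Stable σ H := hP0s.normalizer
  set K' := img π K
  set P' := img π P
  have hK's : Stable τ K' := img_stable hHs hπ hKs
  have hP's : Stable τ P' := img_stable hHs hπ hPs
  have hK'm : moved τ K' = K' := by rw [img_moved hHs hπ hKP0, hKm]
  have hK'p : ⁅K', K'⁆ = K' := img_perfect hKP0 hK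
  have hKP' : K' ≤ normalizer (P' : Set Q) := img_le_normalizer hKP0 hKP
  have hP'p : IsPGroup p P' := (hP.comap_of_injective H.subtype H.subtype_injective).map π
  have hP'ne : P' ≠ ⊥ := fun e => hP0P.not_ge fun x hx =>
    (hker ⟨x, hP0n hx⟩).1 ((Subgroup.eq_bot_iff_forall _).1 e _ (mem_img_of _ hx))
  have hmin : ∀ W : Subgroup Q, W ≤ P' → Stable τ W → K' ≤ normalizer (W : Set Q) →
      P' ≤ normalizer (W : Set Q) → W = ⊥ ∨ W = P' := by
    intro W hWP hWs hKW hPW
    set W0 := (W.comap π).map H.subtype ⊓ P with hW0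
    by_cases hW0P : W0 = P
    · refine Or.inr (le_antisymm hWP ?_)
      rintro _ ⟨x, hx, rfl⟩
      obtain ⟨y, hy, e⟩ := (mem_inf.1 (hW0P.ge (hx : (x : G) ∈ P))).1
      rw [← Subtype.ext e]
      exact hy
    left
    have hW0s : Stable σ W0 := by
      refine Stable.inf ?_ hPs
      rintro _ ⟨x, hx, rfl⟩
      refine ⟨⟨σ x, hHs x x.2⟩, ?_, rfl⟩
      rw [SetLike.mem_coe, mem_comap, hπ]
      exact hWs _ hx
    have hnorm : ∀ {Y : Subgroup G}, Y ≤ H → Y ≤ normalizer (P : Set G) → img π Y ≤ normalizer (W : Set Q) →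
        Y ≤ normalizer (W0 : Set G) := by
      intro Y hYH hYP hYW
      refine le_trans (le_inf ?_ hYP) inf_normalizer_le_normalizer_inf
      intro y hy
      refine le_normalizer_map H.subtype ⟨⟨y, hYH hy⟩, ?_, rfl⟩
      refine le_normalizer_comap π ?_
      exact hYW (mem_img_of _ hy)
    have hle : P0 ≤ W0 := fun x hx => ⟨⟨⟨x, le_normalizer hx⟩, by
      rw [SetLike.mem_coe, mem_comap, (hker _).2 hx]; exact W.one_mem, rfl⟩, hP0P.le hx⟩
    have h0 : W0 ≤ P0 := hP0max ⟨lt_of_le_of_ne inf_le_right hW0P, hW0s, hnorm hP0n le_normalizer hPW,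
      hnorm hKP0 hKP hKW⟩ hle
    refine (Subgroup.eq_bot_iff_forall W).2 fun y hy => ?_
    obtain ⟨x, hx, rfl⟩ := hWP hy
    exact (hker x).2 (h0 ⟨⟨x, hy, rfl⟩, hx⟩)
  have hP'ab : ∀ a ∈ P', ∀ b ∈ P', a * b = b * a := by
    have hc : ⁅P', P'⁆ = ⊥ := by
      refine (hmin _ (commutator_le.2 fun a ha b hb => mul_mem (mul_mem (mul_mem ha hb) (inv_mem ha)) (inv_mem hb))
        (stable_commutator hP's hP's) (fun k hk => ?_) (fun k hk => ?_)).resolve_right
        fun e => hP'ne (eq_bot_of_perfect_isPGroup e hP'p)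
      all_goals rw [mem_normalizer_iff_map_conj_eq, map_commutator]
      · rw [mem_normalizer_iff_map_conj_eq.1 (hKP' hk)]
      · rw [mem_normalizer_iff_map_conj_eq.1 (le_normalizer hk)]
    intro a ha b hb
    have h1 := commutator_mem_commutator ha hb
    rwa [hc, mem_bot, commutatorElement_eq_one_iff_mul_comm] at h1
  have hnormP : ∀ W : Subgroup Q, W ≤ P' → P' ≤ normalizer (W : Set Q) := by
    intro W hW k hk
    refine mem_normalizer_iff.2 fun x => ⟨fun hx => ?_, fun hx => ?_⟩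
    · rw [hP'ab k hk x (hW hx), mul_inv_cancel_right]; exact hx
    · have h1 : k * x * k⁻¹ ∈ P' := hW hx
      have h2 := hP'ab k⁻¹ (inv_mem hk) _ h1
      rw [show k⁻¹ * (k * x * k⁻¹) = x * k⁻¹ by group] at h2
      rwa [show x = k * x * k⁻¹ by simpa using mul_right_cancel h2]
  have hel : Cfsg.IsElementaryAbelian p P' := by
    refine ⟨⟨⟨fun a b => Subtype.ext (hP'ab a a.2 b b.2)⟩⟩, ?_⟩
    let D : Subgroup Q :=
      { carrier := {x | x ∈ P' ∧ x ^ p = 1}
        one_mem' := ⟨one_mem _, one_pow p⟩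
        mul_mem' := fun {a b} ha hb => ⟨mul_mem ha.1 hb.1, by
          rw [(show Commute a b from hP'ab a ha.1 b hb.1).mul_pow, ha.2, hb.2, one_mul]⟩
        inv_mem' := fun {a} ha => ⟨inv_mem ha.1, by rw [inv_pow, ha.2, inv_one]⟩ }
    have hD : D = P' := by
      refine (hmin D (fun x hx => hx.1) (fun x hx => ⟨hP's x hx.1, by rw [← map_pow, hx.2, map_one]⟩)
        (fun k hk => ?_) (hnormP D fun x hx => hx.1)).resolve_left ?_
      · refine mem_normalizer_iff.2 fun x => and_congr (mem_normalizer_iff.1 (hKP' hk) x) ?_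
        rw [conj_pow, conj_eq_one_iff]
      · intro hb
        haveI : Fintype P' := Fintype.ofFinite _
        obtain ⟨m, hm⟩ := hP'p.exists_card_eq
        have hpd : p ∣ Nat.card P' := by
          rcases Nat.eq_zero_or_pos m with rfl | h0
          · exact absurd (Subgroup.eq_bot_of_card_eq _ (by simpa using hm)) hP'ne
          · rw [hm]; exact dvd_pow_self p h0.ne'
        obtain ⟨x, hx⟩ := exists_prime_orderOf_dvd_card' p hpd
        have h1 : (x : Q) ∈ (⊥ : Subgroup Q) := hb ▸ (⟨x.2, by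
          rw [← Subgroup.coe_pow, ← hx, pow_orderOf_eq_one, OneMemClass.coe_one]⟩ : (x : Q) ∈ D)
        rw [mem_bot, OneMemClass.coe_eq_one] at h1
        rw [h1, orderOf_one] at hx
        exact hp'.out.ne_one hx.symm
    exact fun x hx => (hD.ge hx).2
  have hCn : K' ≤ normalizer ((P' ⊓ centralizer (K' : Set Q) : Subgroup Q) : Set Q) :=
    (le_inf hKP' (le_normalizer.trans (normalizer_le_normalizer_centralizer' K'))).trans
      inf_normalizer_le_normalizer_inf
  have hCs : Stable τ (P' ⊓ centralizer (K' : Set Q)) :=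
    hP's.inf (Stable.centralizer fun y hy z hz => hK's.mem_iff.1 (hz ▸ hy))
  have hcen : K' ≤ centralizer (P' : Set Q) := by
    rcases hmin _ inf_le_left hCs hCn (hnormP _ inf_le_left) with hb | ht
    · refine centralizes_irreducible hcτ hK's hK'p hK'm hel hP's hKP'
        (fun W hW hWs hKW => hmin W hW hWs hKW (hnormP W hW)) fun y hy hτy => ?_
      obtain ⟨c, hc, hσc, rfl⟩ := exists_fixed_lift hHs hπ hcop hP0s hker hPs hP0n hy hτy
      refine (Subgroup.eq_bot_iff_forall _).1 hb _ ⟨hy, mem_centralizer_iff.2 ?_⟩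
      rintro _ ⟨k, hk, rfl⟩
      rw [← map_mul, ← map_mul]
      exact congrArg π (Subtype.ext (hfix c hc hσc k hk).eq)
    · intro k hk
      refine mem_centralizer_iff.2 fun x hx => ?_
      exact (mem_centralizer_iff.1 (mem_inf.1 (ht.ge hx)).2 k hk).symm
  have h1 : ⁅K, P⁆ ≤ P0 := commutator_le.2 fun k hk x hx => by
    have h2 := mem_centralizer_iff.1 (hcen (mem_img_of ⟨k, hKP0 hk⟩ hk)) _ (mem_img_of ⟨x, hP0n hx⟩ hx)
    refine (hker ⟨⁅k, x⁆, ?_⟩).1 ?_
    · exact mul_mem (mul_mem (mul_mem (hKP0 hk) (hP0n hx)) (inv_mem (hKP0 hk))) (inv_mem (hP0n hx))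
    · show π ⁅(⟨k, hKP0 hk⟩ : H), ⟨x, hP0n hx⟩⁆ = 1
      rw [map_commutatorElement, commutatorElement_eq_one_iff_mul_comm, h2]
  have h3 : ⁅⁅K, P⁆, K⁆ = ⊥ :=
    eq_bot_iff.2 ((commutator_mono h1 le_rfl).trans (commutator_eq_bot_iff_le_centralizer.2
      (le_centralizer_iff.1 hK0)).le)
  have h4 : ⁅⁅K, K⁆, P⁆ = ⊥ :=
    commutator_commutator_eq_bot_of_rotate h3 (by rw [commutator_comm P K]; exact h3)
  rw [hK] at h4
  exact commutator_eq_bot_iff_le_centralizer.1 h4

/-- The same statement without the bound. -/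
theorem le_centralizer_of_fixed {σ : MulAut G} (hcop : CopAut σ r) {K P : Subgroup G} (hKs : Stable σ K)
    (hK : ⁅K, K⁆ = K) (hKm : moved σ K = K) (hP : IsPGroup p P) (hPs : Stable σ P)
    (hKP : K ≤ normalizer (P : Set G)) (hfix : ∀ x ∈ P, σ x = x → ∀ k ∈ K, Commute k x) :
    K ≤ centralizer (P : Set G) :=
  centralizes_of_fixed (p := p) _ hcop le_rfl hKs hK hKm hP hPs hKP hfix

end CfsgLib.CoprimeLayer
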