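import Mathlib
import Cfsg.Agent.CoprimeLayer.Centralize
import Cfsg.Agent.HHShultGen.Split
import Cfsg.Agent.ZJ.ConjModule
import Cfsg.Agent.FTRows.AutSylowTwo
import Cfsg.Agent.S0205
import Cfsg.Agent.S0227

/-!
A perfect group of displacements acting on a simple group and centralizing the fixed points induces inner
automorphisms only.
-/

set_option autoImplicit false
set_option linter.style.haveILetI false
set_option linter.unusedSectionVars false

namespace CfsgLib.CoprimeLayer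

open Subgroup CfsgLib.HHShult
open scoped commutatorElement

universe u

variable {G : Type u} [Group G] [Finite G] {σ : MulAut G} {r : ℕ}

/-- A group of odd order is solvable. -/
theorem solvable_of_odd {Q : Type u} [Group Q] [Finite Q] (h : Odd (Nat.card Q)) : Group.IsSolvable Q :=
  Cfsg.Agent.S0205.result h

/-- A perfect subgroup normalizing a two-subgroup with odd index in an overgroup is contained in it. -/
theorem eq_bot_of_perfect_normalizing {R S J : Subgroup G} (hJ : ⁅J, J⁆ = J) (hSR : S ≤ R) (hJR : J ≤ R)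
    (hS : IsPGroup 2 S) (hodd : ¬ 2 ∣ S.relIndex R) (hn : J ≤ normalizer (S : Set G)) : J = ⊥ := by
  haveI : Fact (Nat.Prime 2) := ⟨Nat.prime_two⟩
  set W := J ⊔ S
  have hWn : W ≤ normalizer (S : Set G) := sup_le hn le_normalizer
  haveI : (S.subgroupOf W).Normal := ⟨fun x hx g => (mem_normalizer_iff.1 (hWn g.2) (x : G)).1 hx⟩
  have hcard : Odd (Nat.card (↥W ⧸ S.subgroupOf W)) := by
    rw [← index_eq_card, ← relIndex, Nat.odd_iff]
    have h1 : ¬ 2 ∣ S.relIndex W := fun h2 => hodd (h2.trans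
      ⟨_, (relIndex_mul_relIndex S W R le_sup_right (sup_le hJR hSR)).symm⟩)
    omega
  have hsol := solvable_of_odd hcard
  have h1 : (J.subgroupOf W).map (QuotientGroup.mk' (S.subgroupOf W)) = ⊥ := by
    refine eq_bot_of_perfect (perfect_map _ ?_) inferInstance
    refine map_injective W.subtype_injective ?_
    rw [map_commutator, map_subgroupOf_eq_of_le le_sup_left, hJ]
  refine eq_bot_of_perfect_isPGroup (p := 2) hJ (hS.to_le fun x hx => ?_)
  have h2 := (Subgroup.eq_bot_iff_forall _).1 h1 _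
    ⟨(⟨x, le_sup_left (b := S) hx⟩ : W), (hx : _), rfl⟩
  exact ((QuotientGroup.eq_one_iff _).1 h2 : _)

/-- **The simple case**: a perfect group of displacements centralizing the fixed points of a simple normal
subgroup with trivial centralizer lies in it. -/
theorem le_of_centralizes_fixed (hcop : CopAut σ r) {L M : Subgroup G} [hLn : L.Normal] (hLs : Stable σ L)
    [hsimple : IsSimpleGroup L] (hLns : ¬ Group.IsSolvable L) (hC : centralizer (L : Set G) = ⊥)
    (hMs : Stable σ M) (hM : ⁅M, M⁆ = M) (hMm : moved σ M = M)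
    (hfix : ∀ x ∈ L, σ x = x → ∀ m ∈ M, Commute m x) : M ≤ L := by
  classical
  haveI h2 : Fact (Nat.Prime 2) := ⟨Nat.prime_two⟩
  set q := QuotientGroup.mk' L
  let τ : MulAut (G ⧸ L) := QuotientGroup.congr L L σ hLs.map_eq
  have hτ : ∀ x : G, q (σ x) = τ (q x) := fun x => rfl
  set Lf := L ⊓ fixedSubgroup σ
  obtain ⟨ST⟩ : Nonempty (Sylow 2 Lf) := inferInstance
  set T := (ST : Subgroup Lf).map Lf.subtype with hT
  have hTLf : T ≤ Lf := map_subtype_le _
  have hTp : IsPGroup 2 T := ST.isPGroup'.map _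
  have hTs : Stable σ T := fun x hx => by
    rw [show σ x = x from (mem_inf.1 (hTLf hx)).2]; exact hx
  have hTmax : ∀ Q : Subgroup G, IsPGroup 2 Q → Q ≤ Lf → T ≤ Q → Q ≤ T := by
    intro Q hQ hQLf hTQ
    have h1 : Q.subgroupOf Lf = (ST : Subgroup Lf) :=
      ST.is_maximal' (hQ.comap_of_injective Lf.subtype Lf.subtype_injective)
        fun x hx => hTQ ⟨x, hx, rfl⟩
    intro x hx
    exact ⟨⟨x, hQLf hx⟩, h1.le (hx : _), rfl⟩
  obtain ⟨P, ⟨hPp, hPL, hPs, hTP, K, hKs, hK, hKm, hKP, hKq⟩, hPmax⟩ :=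
    (Set.toFinite {P : Subgroup G | IsPGroup 2 P ∧ P ≤ L ∧ Stable σ P ∧ T ≤ P ∧ ∃ K : Subgroup G, Stable σ K ∧
      ⁅K, K⁆ = K ∧ moved σ K = K ∧ K ≤ centralizer (P : Set G) ∧ M.map q ≤ K.map q}).exists_maximal
      ⟨T, hTp, hTLf.trans inf_le_left, hTs, le_rfl, M, hMs, hM, hMm,
        fun m hm => mem_centralizer_iff.2 fun x hx =>
          (hfix x (mem_inf.1 (hTLf hx)).1 (mem_inf.1 (hTLf hx)).2 m hm).eq.symm, le_rfl⟩
  set N := L ⊓ normalizer (P : Set G)
  have hNs : Stable σ N := hLs.inf hPs.normalizer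
  obtain ⟨S1, hS1N, hS1p, hS1s, hPS1, hS1odd⟩ :=
    HHShultGen.exists_sylow_of_le hcop hNs hPp hPs (le_inf hPL le_normalizer)
  have hKnP : K ≤ normalizer (P : Set G) := hKP.trans (centralizer_le_normalizer _)
  have hKnN : K ≤ normalizer (N : Set G) :=
    (le_inf (by rw [normalizer_eq_top]; exact le_top) (hKnP.trans le_normalizer)).trans
      inf_normalizer_le_normalizer_inf
  set B := (K ⊔ N) ⊓ normalizer (S1 : Set G)
  have hBs : Stable σ B := (hKs.sup hNs).inf hS1s.normalizer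
  have hKB : K.map q ≤ B.map q := by
    rintro _ ⟨k, hk, rfl⟩
    let SN : Sylow 2 N := (hS1p.comap_of_injective N.subtype N.subtype_injective).toSylow hS1odd
    let φ : MulAut N := N.normalizerMonoidHom ⟨k, hKnN hk⟩
    obtain ⟨n, hn⟩ := MulAction.exists_smul_eq N SN (φ • SN)
    have hg : ∀ y ∈ S1, ((n : G)⁻¹ * k) * y * ((n : G)⁻¹ * k)⁻¹ ∈ S1 := by
      intro y hy
      have h1 : φ ⟨y, hS1N hy⟩ ∈ ((φ • SN : Sylow 2 N) : Subgroup N) := by
        rw [Sylow.pointwise_smul_def, mem_pointwise_smul_iff_inv_smul_mem]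
        show φ⁻¹ (φ ⟨y, hS1N hy⟩) ∈ (S1.subgroupOf N)
        rw [MulAut.inv_def, MulEquiv.symm_apply_apply]
        exact hy
      rw [← hn, Sylow.coe_subgroup_smul, mem_pointwise_smul_iff_inv_smul_mem] at h1
      have h2 : ((MulAut.conj n)⁻¹ (φ ⟨y, hS1N hy⟩) : N) ∈ S1.subgroupOf N := h1
      rw [mem_subgroupOf, MulAut.conj_inv_apply] at h2
      have e : ((n⁻¹ * φ ⟨y, hS1N hy⟩ * n : N) : G) = ((n : G)⁻¹ * k) * y * ((n : G)⁻¹ * k)⁻¹ := by
        show (n : G)⁻¹ * (k * y * k⁻¹) * n = _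
        group
      rwa [e] at h2
    refine ⟨(n : G)⁻¹ * k, ⟨mul_mem (mem_sup_right (inv_mem n.2)) (mem_sup_left hk), ?_⟩, ?_⟩
    · exact mem_normalizer_iff_map_conj_eq.2 (Subgroup.eq_of_le_of_card_ge
        (map_le_iff_le_comap.2 fun y hy => hg y hy)
        (Subgroup.card_map_of_injective (MulEquiv.injective _)).ge)
    · show q ((n : G)⁻¹ * k) = q k
      rw [map_mul, show q (n : G)⁻¹ = 1 from (QuotientGroup.eq_one_iff _).2 (inv_mem n.2.1), one_mul]
  obtain ⟨K', ⟨hK'B, hK's, hK'q⟩, hK'min⟩ :=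
    (Set.toFinite {Y : Subgroup G | Y ≤ B ∧ Stable σ Y ∧ M.map q ≤ Y.map q}).exists_minimal
      ⟨B, le_rfl, hBs, hKq.trans hKB⟩
  have hK'perf : ⁅K', K'⁆ = K' := by
    have hle : ⁅K', K'⁆ ≤ K' := commutator_le.2 fun a ha b hb =>
      mul_mem (mul_mem (mul_mem ha hb) (inv_mem ha)) (inv_mem hb)
    refine le_antisymm hle (hK'min ⟨hle.trans hK'B, stable_commutator hK's hK's, ?_⟩ hle)
    calc M.map q = ⁅M.map q, M.map q⁆ := (perfect_map q hM).symm
      _ ≤ ⁅K'.map q, K'.map q⁆ := commutator_mono hK'q hK'q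
      _ = ⁅K', K'⁆.map q := (map_commutator _ _ q).symm
  have hK'm : moved σ K' = K' := by
    refine le_antisymm (moved_le hK's) (hK'min ⟨(moved_le hK's).trans hK'B, stable_moved hK's, ?_⟩ (moved_le hK's))
    calc M.map q = (moved σ M).map q := by rw [hMm]
      _ = moved τ (M.map q) := map_moved q hτ M
      _ ≤ moved τ (K'.map q) := moved_mono hK'q
      _ = (moved σ K').map q := (map_moved q hτ K').symm
  have hBP : B ≤ normalizer (P : Set G) := inf_le_left.trans (sup_le hKnP inf_le_right)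
  have hK'P : K' ≤ centralizer (P : Set G) := by
    let c := ZJ.conjHom P
    let c' : N →* MulAut P := c.comp (Subgroup.inclusion (inf_le_right : N ≤ normalizer (P : Set G)))
    set J := img c K'
    set Sb := (S1.subgroupOf N).map c'
    have hJR : J ≤ c'.range := by
      have h1 : K ⊔ N ≤ ((c'.range).comap c).map (normalizer (P : Set G)).subtype := by
        refine sup_le (fun x hx => ⟨⟨x, hKnP hx⟩, ?_, rfl⟩) fun x hx => ⟨⟨x, hx.2⟩, ⟨⟨x, hx⟩, rfl⟩, rfl⟩
        rw [SetLike.mem_coe, mem_comap]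
        rw [show c ⟨x, hKnP hx⟩ = 1 from MulEquiv.ext fun v => Subtype.ext (by
          rw [ZJ.conjHom_apply, MulAut.one_apply, ← mem_centralizer_iff.1 (hKP hx) v v.2, mul_inv_cancel_right])]
        exact one_mem _
      rintro _ ⟨x, hx, rfl⟩
      obtain ⟨y, hy, e⟩ := h1 (mem_inf.1 (hK'B (hx : (x : G) ∈ K'))).1
      rw [← Subtype.ext e]
      exact hy
    have hJn : J ≤ normalizer (Sb : Set (MulAut P)) := by
      rintro _ ⟨x, hx, rfl⟩
      refine mem_normalizer_iff_map_conj_eq.2 (Subgroup.eq_of_le_of_card_ge ?_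
        (Subgroup.card_map_of_injective (MulEquiv.injective _)).ge)
      rintro _ ⟨_, ⟨y, hy, rfl⟩, rfl⟩
      have h1 : (x : G) * (y : G) * (x : G)⁻¹ ∈ S1 :=
        (mem_normalizer_iff.1 (mem_inf.1 (hK'B (hx : (x : G) ∈ K'))).2 _).1 hy
      refine ⟨⟨_, hS1N h1⟩, h1, ?_⟩
      show c (Subgroup.inclusion _ ⟨_, hS1N h1⟩) = MulAut.conj (c x) (c (Subgroup.inclusion _ y))
      rw [MulAut.conj_apply, ← map_inv, ← map_mul, ← map_mul]
      rfl
    have hJ : J = ⊥ := by
      refine eq_bot_of_perfect_normalizing (R := c'.range) (S := Sb) (img_perfect (hK'B.trans hBP) hK'perf)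
        (map_le_range _ _) hJR ((hS1p.comap_of_injective N.subtype N.subtype_injective).map _) (fun hd => hS1odd ?_) hJn
      have e : Sb.subgroupOf c'.range = (S1.subgroupOf N).map c'.rangeRestrict := by
        refine map_injective c'.range.subtype_injective ?_
        rw [map_subgroupOf_eq_of_le (map_le_range _ _), map_map]
        rfl
      rw [relIndex, e] at hd
      exact hd.trans (Subgroup.index_map_dvd _ c'.rangeRestrict_surjective)
    intro x hx
    refine mem_centralizer_iff.2 fun v hv => ?_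
    have h1 := (Subgroup.eq_bot_iff_forall _).1 hJ _ (mem_img_of (π := c) ⟨x, hBP (hK'B hx)⟩ hx)
    have h2 := congrArg Subtype.val (MulEquiv.congr_fun h1 ⟨v, hv⟩)
    rw [ZJ.conjHom_apply, MulAut.one_apply] at h2
    exact (mul_inv_eq_iff_eq_mul.1 h2).symm
  have hK'S : K' ≤ centralizer (S1 : Set G) := by
    refine le_centralizer_of_fixed (p := 2) hcop hK's hK'perf hK'm hS1p hS1s
      (hK'B.trans inf_le_right) fun y hy hσy k hk => ?_
    have h1 : y ∈ P := hTP (hTmax (S1 ⊓ fixedSubgroup σ) (hS1p.to_le inf_le_left)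
      (inf_le_inf (hS1N.trans inf_le_left) le_rfl)
      (le_inf (hTP.trans hPS1) (hTLf.trans inf_le_right)) ⟨hy, hσy⟩)
    exact (mem_centralizer_iff.1 (hK'P hk) y h1).symm
  have hS1P : S1 ≤ P := hPmax ⟨hS1p, hS1N.trans inf_le_left, hS1s, hTP.trans hPS1, K', hK's, hK'perf, hK'm,
    hK'S, hK'q⟩ hPS1
  obtain rfl : S1 = P := le_antisymm hS1P hPS1
  obtain ⟨SL, hSL⟩ := (hPp.comap_of_injective L.subtype L.subtype_injective).exists_le_sylow
  have hSLP : (SL : Subgroup L) ≤ S1.subgroupOf L := by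
    by_contra hnot
    haveI : Group.IsNilpotent (SL : Subgroup L) := SL.isPGroup'.isNilpotent
    have hlt : ((S1.subgroupOf L).subgroupOf (SL : Subgroup L)) < ⊤ :=
      lt_top_iff_ne_top.2 fun e => hnot (subgroupOf_eq_top.1 e)
    obtain ⟨x, hxn, hxS⟩ := SetLike.exists_of_lt
      (normalizerCondition_of_isNilpotent (G := (SL : Subgroup L)) _ hlt)
    refine hxS ?_
    set R := (SL : Subgroup L).map L.subtype ⊓ normalizer (S1 : Set G)
    have hxR : ((x : L) : G) ∈ R := by
      refine ⟨⟨x, x.2, rfl⟩, mem_normalizer_iff_map_conj_eq.2 (Subgroup.eq_of_le_of_card_ge ?_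
        (Subgroup.card_map_of_injective (MulEquiv.injective _)).ge)⟩
      rintro _ ⟨y, hy, rfl⟩
      exact (mem_normalizer_iff.1 hxn ⟨⟨y, hPL hy⟩, hSL (hy : _)⟩).1 hy
    have hRp : IsPGroup 2 R := (SL.isPGroup'.map L.subtype).to_le inf_le_left
    have hRN : R ≤ N := inf_le_inf (map_subtype_le _) le_rfl
    have hPR : S1 ≤ R := le_inf (fun y hy => ⟨⟨y, hPL hy⟩, hSL (hy : _), rfl⟩) le_normalizer
    have h1 : ¬ 2 ∣ S1.relIndex R := fun hd => hS1odd (hd.trans ⟨_, (relIndex_mul_relIndex S1 R N hPR hRN).symm⟩)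
    obtain ⟨m, hm⟩ := hRp.index (S1.subgroupOf R)
    have h3 : R ≤ S1 := by
      rw [← relIndex_eq_one]
      rw [relIndex] at h1 ⊢
      rcases Nat.eq_zero_or_pos m with rfl | h0
      · simpa using hm
      · exact absurd (hm ▸ dvd_pow_self 2 h0.ne') h1
    exact h3 hxR
  let C : Subgroup (MulAut L) :=
    { carrier := {φ | ∀ s : L, s ∈ SL → φ s = s}
      one_mem' := fun s _ => rfl
      mul_mem' := fun {a b} ha hb s hs => by rw [MulAut.mul_apply, hb s hs, ha s hs]
      inv_mem' := fun {a} ha s hs => a.injective (by rw [MulAut.apply_inv_self, ha s hs]) }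
  have hO : ∀ W : Subgroup L, W.Normal → Odd (Nat.card W) → W = ⊥ := by
    intro W hW hodd
    refine (hW.eq_bot_or_eq_top).resolve_right fun e => hLns ?_
    rw [e, card_top] at hodd
    exact solvable_of_odd hodd
  have hCsol : Group.IsSolvable C :=
    (Cfsg.Agent.S0227.result hO SL C fun φ => Iff.rfl).2
  have hKC : K.map (MulAut.conjNormal (H := L)) ≤ C := by
    rintro _ ⟨k, hk, rfl⟩ s hs
    refine Subtype.ext ?_
    rw [MulAut.conjNormal_apply, ← mem_centralizer_iff.1 (hKP hk) (s : G) (hSLP hs), mul_inv_cancel_right]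
  have hKbot : K.map (MulAut.conjNormal (H := L)) = ⊥ := eq_bot_of_perfect (perfect_map _ hK)
    (Group.isSolvable_of_isSolvable_injective (Subgroup.inclusion_injective hKC))
  have hK1 : K = ⊥ := by
    rw [eq_bot_iff, ← hC]
    intro k hk
    refine mem_centralizer_iff.2 fun x hx => ?_
    have h1 := congrArg Subtype.val (MulEquiv.congr_fun
      ((Subgroup.eq_bot_iff_forall _).1 hKbot _ ⟨k, hk, rfl⟩) (⟨x, hx⟩ : L))
    rw [MulAut.conjNormal_apply, MulAut.one_apply] at h1
    exact (mul_inv_eq_iff_eq_mul.1 h1).symm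
  rw [hK1, Subgroup.map_bot, le_bot_iff, Subgroup.map_eq_bot_iff, QuotientGroup.ker_mk'] at hKq
  exact hKq

end CfsgLib.CoprimeLayer
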