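import Mathlib
import Cfsg.Agent.CoprimeLayer.Orbit
import Cfsg.Agent.CoprimeLayer.Simple
import Cfsg.Agent.CompOrbit.Basic

/-!
A perfect group of displacements centralizing the Fitting subgroup and the fixed points of the layer lies in the
layer.
-/

set_option autoImplicit false
set_option linter.style.haveILetI false
set_option linter.unusedSectionVars false

namespace CfsgLib.CoprimeLayer

open Subgroup CfsgLib.HHShult CfsgLib
open scoped commutatorElement Pointwise

universe u

variable {G : Type u} [Group G] [Finite G] {σ : MulAut G} {r : ℕ}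

section

variable (hcop : CopAut σ r) {M : Subgroup G} (hMs : Stable σ M)
  (hfix : ∀ x ∈ Cfsg.layer G, σ x = x → ∀ m ∈ M, Commute m x)
include hcop hMs hfix

/-- Such a group centralizes every moved component. -/
theorem le_centralizer_moved {L : Subgroup G} (hL : Cfsg.IsComponent L) (hLm : L.map σ.toMonoidHom ≠ L) :
    M ≤ centralizer (L : Set G) := by
  classical
  have hd : ∀ l ∈ L, ∀ m ∈ M, Commute m (diag σ l r) := fun l hl m hm =>
    hfix _ (diag_mem_layer hcop hL hLm hl) (apply_diag_self hcop hL hLm hl) m hm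
  have horb : ∀ m ∈ M, ∃ i, L.map (σ ^ i).toMonoidHom = L.map (MulAut.conj m).toMonoidHom := by
    intro m hm
    by_contra hcon
    push Not at hcon
    refine Comp.component_not_comm hL (commutator_eq_bot_iff_le_centralizer.2 fun a ha => ?_)
    refine mem_centralizer_iff.2 fun b hb => ?_
    -- `diag a` commutes with `b`
    have h1 := mem_centralizer_iff.1 (commute_diag_of_ne hcop hL hLm (Comp.component_conj m hL) hcon ha)
      _ ⟨b, hb, rfl⟩
    have h2 : m * diag σ a r * m⁻¹ = diag σ a r := by rw [(hd a ha m hm).eq, mul_inv_cancel_right]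
    have h3 : Commute b (diag σ a r) := by
      have h4 : MulAut.conj m b * MulAut.conj m (diag σ a r) = MulAut.conj m (diag σ a r) * MulAut.conj m b := by
        simp only [MulAut.conj_apply] at h1 ⊢
        rw [h2]; exact h1
      rw [← map_mul, ← map_mul] at h4
      exact (MulAut.conj m).injective h4
    have h5 : Commute b (a⁻¹ * diag σ a r) := mem_centralizer_iff.1 (inv_mul_diag hcop hL hLm ha) b hb
    have h6 : Commute b a := by
      have := h3.mul_right h5.inv_right
      rwa [mul_inv_rev, inv_inv, mul_inv_cancel_left] at this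
    exact h6
  -- every conjugate is the component itself
  have hconj : ∀ m ∈ M, L.map (MulAut.conj m).toMonoidHom = L := by
    by_contra hcon
    push Not at hcon
    obtain ⟨m, hm, hmne⟩ := hcon
    obtain ⟨j, hj⟩ := horb m hm
    have hjr : ¬ r ∣ j := fun hd => hmne (by
      obtain ⟨k, rfl⟩ := hd
      rw [← hj, pow_mul, hcop.pow_eq, one_pow]
      exact L.map_id)
    letI : MulAction M (Subgroup G) := MulAction.compHom _ ((MulAut.conj : G →* MulAut G).comp M.subtype)
    have hsmul : ∀ (x : M) (J : Subgroup G), x • J = J.map (MulAut.conj (x : G)).toMonoidHom := fun x J => rfl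
    have hstep : ∀ k : ℕ, L.map (σ ^ (j * k)).toMonoidHom ∈ MulAction.orbit M L := by
      intro k
      induction k with
      | zero =>
        refine ⟨1, ?_⟩
        show (1 : M) • L = _
        rw [one_smul, mul_zero, pow_zero]
        exact L.map_id.symm
      | succ k ih =>
        obtain ⟨x, hx⟩ := ih
        refine ⟨(⟨(σ ^ j) (x : G), hMs.pow_mem j x.2⟩ : M) * ⟨m, hm⟩, ?_⟩
        change x • L = _ at hx
        rw [hsmul] at hx
        show _ • L = _
        rw [mul_smul, hsmul ⟨m, hm⟩, ← hj, hsmul, Subgroup.map_map,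
          show j * (k + 1) = j + j * k by ring, pow_add]
        show _ = L.map ((σ ^ j).toMonoidHom.comp (σ ^ (j * k)).toMonoidHom)
        rw [← Subgroup.map_map L (σ ^ j).toMonoidHom (σ ^ (j * k)).toMonoidHom, ← hx, Subgroup.map_map]
        refine congrArg (fun f : G →* G => L.map f) ?_
        ext y
        simp [map_mul, map_inv]
    have horbit : MulAction.orbit M L = Set.range fun i : Fin r => L.map (σ ^ (i : ℕ)).toMonoidHom := by
      ext J
      constructor
      · rintro ⟨x, rfl⟩
        obtain ⟨i, hi⟩ := horb x x.2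
        refine ⟨⟨i % r, Nat.mod_lt _ hcop.prime.pos⟩, ?_⟩
        show L.map (σ ^ (i % r)).toMonoidHom = x • L
        rw [← pow_mod_eq hcop, hi, hsmul]
      · rintro ⟨i, rfl⟩
        obtain ⟨k, -, hk⟩ := Nat.exists_mul_mod_eq_one_of_coprime
          ((hcop.prime.coprime_iff_not_dvd).2 hjr).symm hcop.prime.one_lt
        have e : σ ^ (i : ℕ) = σ ^ (j * (k * i)) := by
          rw [pow_mod_eq hcop (j * (k * (i : ℕ))), ← mul_assoc, Nat.mul_mod, hk, one_mul, Nat.mod_mod,
            ← pow_mod_eq hcop]
        show L.map (σ ^ (i : ℕ)).toMonoidHom ∈ _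
        rw [e]
        exact hstep _
    have hinj : Function.Injective fun i : Fin r => L.map (σ ^ (i : ℕ)).toMonoidHom := by
      intro a b hab
      by_contra hne
      wlog hlt : (a : ℕ) < b generalizing a b with H
      · exact H hab.symm (Ne.symm hne) (lt_of_le_of_ne (not_lt.1 hlt) fun e => hne (Fin.ext e).symm)
      refine map_pow_ne hcop hLm (i := (b : ℕ) - a) (by omega) (by omega) ?_
      refine Subgroup.map_injective (f := (σ ^ (a : ℕ)).toMonoidHom) (σ ^ (a : ℕ)).injective ?_
      refine (map_map L _ _).trans (Eq.trans ?_ hab.symm)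
      show _ = L.map (σ ^ (b : ℕ)).toMonoidHom
      conv_rhs => rw [show (b : ℕ) = a + (b - a) by omega, pow_add]
      rfl
    have hcard : r ∣ Nat.card M := by
      have h1 : Nat.card (MulAction.orbit M L) = r := by
        rw [horbit, Nat.card_range_of_injective hinj, Nat.card_fin]
      rw [Nat.card_congr (MulAction.orbitEquivQuotientStabilizer M L), ← index_eq_card] at h1
      exact h1 ▸ index_dvd_card _
    exact hcop.not_dvd_sub M hcard
  intro m hm
  have hmN : m ∈ normalizer (L : Set G) := mem_normalizer_iff_map_conj_eq.2 (hconj m hm)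
  refine LocalBalance.centralizes_of_commutator_central (Comp.component_perfect hL) hmN fun l hl => ?_
  have hc := inv_mul_diag hcop hL hLm hl
  have hc' := (mem_normalizer_iff.1 (normalizer_le_normalizer_centralizer' L hmN) _).1 hc
  have e : m * l * m⁻¹ * l⁻¹ = diag σ l r * (m * (l⁻¹ * diag σ l r) * m⁻¹)⁻¹ * (diag σ l r)⁻¹
      * (l * (l⁻¹ * diag σ l r) * l⁻¹) := by
    calc m * l * m⁻¹ * l⁻¹ = (m * diag σ l r * m⁻¹) * (m * (l⁻¹ * diag σ l r) * m⁻¹)⁻¹ * l⁻¹ := by group
      _ = diag σ l r * (m * (l⁻¹ * diag σ l r) * m⁻¹)⁻¹ * l⁻¹ := by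
        rw [(hd l hl m hm).eq, mul_inv_cancel_right]
      _ = _ := by group
  have hdn : diag σ l r ∈ normalizer ((centralizer (L : Set G) : Subgroup G) : Set G) := by
    rw [show diag σ l r = l * (l⁻¹ * diag σ l r) by group]
    exact mul_mem (normalizer_le_normalizer_centralizer' L (le_normalizer hl)) (le_normalizer hc)
  rw [e]
  exact mul_mem ((mem_normalizer_iff.1 hdn _).1 (inv_mem hc'))
    ((mem_normalizer_iff.1 (normalizer_le_normalizer_centralizer' L (le_normalizer hl)) _).1 hc)

/-- Such a group normalizes every stable component. -/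
theorem le_normalizer_stable {L : Subgroup G} (hL : Cfsg.IsComponent L) (hLs : Stable σ L) :
    M ≤ normalizer (L : Set G) := by
  intro m hm
  obtain ⟨u, hu, hσu, huc⟩ := exists_fixed_not_central hcop hL hLs
  refine mem_normalizer_iff_map_conj_eq.2 ?_
  by_contra hne
  have h1 : u ∈ L.map (MulAut.conj m).toMonoidHom := ⟨u, hu, by
    show m * u * m⁻¹ = u
    rw [(hfix u (Comp.component_le_layer hL hu) hσu m hm).eq, mul_inv_cancel_right]⟩
  exact huc (Comp.le_centralizer_of_commutator_eq_bot
    ((Comp.component_eq_or_commute (Comp.component_conj m hL) hL).resolve_left hne) h1)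

/-- Such a group induces inner automorphisms on every stable component. -/
theorem le_sup_centralizer_stable (hM : ⁅M, M⁆ = M) (hMm : moved σ M = M) {L : Subgroup G} (hL : Cfsg.IsComponent L)
    (hLs : Stable σ L) : M ≤ L ⊔ centralizer (L : Set G) := by
  have hMN := le_normalizer_stable hcop hMs hfix hL hLs
  have hCs : Stable σ (centralizer (L : Set G)) := Stable.centralizer fun y hy z hz => hLs.mem_iff.1 (hz ▸ hy)
  obtain ⟨Q, _, _, τ, π, hcτ, hsurj, hker, hπ⟩ := exists_section hcop hLs.normalizer hCs
    (normalizer_le_normalizer_centralizer' L)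
  have hLN : L ≤ normalizer (L : Set G) := le_normalizer
  set L' := img π L
  haveI hL'n : L'.Normal := by
    rw [← normalizer_eq_top_iff, eq_top_iff]
    intro y _
    obtain ⟨x, rfl⟩ := hsurj y
    exact img_le_normalizer (A := normalizer (L : Set G)) le_rfl le_rfl (mem_img_of x x.2)
  let f : L →* Q := π.comp (Subgroup.inclusion hLN)
  have hrange : f.range = L' := by
    ext y
    exact ⟨fun ⟨x, hx⟩ => ⟨Subgroup.inclusion hLN x, x.2, hx⟩, fun ⟨x, hx, e⟩ => ⟨⟨x, hx⟩, e⟩⟩
  have hfker : f.ker = center L := by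
    ext x
    rw [MonoidHom.mem_ker, MonoidHom.comp_apply, hker, mem_centralizer_iff, mem_center_iff]
    exact ⟨fun h y => Subtype.ext (h y y.2), fun h y hy => congrArg Subtype.val (h ⟨y, hy⟩)⟩
  let e : (↥L ⧸ center L) ≃* L' := ((QuotientGroup.quotientMulEquivOfEq hfker.symm).trans
    (QuotientGroup.quotientKerEquivRange f)).trans (MulEquiv.subgroupCongr hrange)
  haveI := hL.2.2
  haveI : IsSimpleGroup L' := e.symm.isSimpleGroup
  have hns : ¬ Group.IsSolvable L' := fun hs => by
    have hne : L' ≠ ⊥ := fun h => by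
      haveI := IsSimpleGroup.toNontrivial (G := L')
      exact (Subgroup.nontrivial_iff_ne_bot L').1 this h
    exact hne (eq_bot_of_perfect (img_perfect hLN (Comp.component_perfect hL)) hs)
  have hC : centralizer (L' : Set Q) = ⊥ := by
    refine (Subgroup.eq_bot_iff_forall _).2 fun y hy => ?_
    obtain ⟨x, rfl⟩ := hsurj y
    refine (hker x).2 (LocalBalance.centralizes_of_commutator_central (Comp.component_perfect hL) x.2 fun l hl => ?_)
    have h1 := mem_centralizer_iff.1 hy _ (mem_img_of (π := π) ⟨l, hLN hl⟩ hl)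
    refine (hker (x * ⟨l, hLN hl⟩ * x⁻¹ * (⟨l, hLN hl⟩ : normalizer (L : Set G))⁻¹)).1 ?_
    rw [map_mul, map_mul, map_mul, ← h1, map_inv, map_inv, mul_inv_cancel_right, mul_inv_cancel]
  have hle := le_of_centralizes_fixed hcτ (L := L') (img_stable hLs.normalizer hπ hLs) hns hC
    (img_stable hLs.normalizer hπ hMs) (img_perfect hMN hM)
    (by rw [img_moved hLs.normalizer hπ hMN, hMm]) ?_
  · intro m hm
    obtain ⟨l, hl, hlm⟩ := hle (mem_img_of ⟨m, hMN hm⟩ hm)
    have h1 : (l : G)⁻¹ * m ∈ centralizer (L : Set G) := (hker (l⁻¹ * ⟨m, hMN hm⟩)).1 (by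
      rw [map_mul, map_inv, hlm, inv_mul_cancel])
    rw [show m = (l : G) * ((l : G)⁻¹ * m) by group]
    exact mul_mem (mem_sup_left hl) (mem_sup_right h1)
  · intro y hy hτy z hz
    obtain ⟨c, hc, hσc, rfl⟩ := exists_fixed_lift hLs.normalizer hπ hcop hCs hker hLs hLN hy hτy
    obtain ⟨x, hx, rfl⟩ := hz
    show π x * π _ = π _ * π x
    rw [← map_mul, ← map_mul]
    exact congrArg π (Subtype.ext (hfix c (Comp.component_le_layer hL hc) hσc x hx).eq)

/-- **Containment in the layer.** -/
theorem le_layer (hM : ⁅M, M⁆ = M) (hMm : moved σ M = M)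
    (hF : M ≤ centralizer (Cfsg.fittingSubgroup G : Set G)) : M ≤ Cfsg.layer G := by
  have hinner : ∀ K : Subgroup G, Cfsg.IsComponent K → M ≤ K ⊔ centralizer (K : Set G) := by
    intro K hK
    by_cases hKm : K.map σ.toMonoidHom = K
    · exact le_sup_centralizer_stable hcop hMs hfix hM hMm hK (stable_of_map_eq hKm)
    · exact le_sup_of_le_right (le_centralizer_moved hcop hMs hfix hK hKm)
  have hmain : ∀ x ∈ M, ∃ e ∈ Cfsg.layer G,
      ∀ K : Subgroup G, Cfsg.IsComponent K → e⁻¹ * x ∈ centralizer (K : Set G) := by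
    intro x hx
    classical
    suffices hfin : ∀ s : Finset {K : Subgroup G // Cfsg.IsComponent K},
        ∃ e ∈ Cfsg.layer G, ∀ K ∈ s, e⁻¹ * x ∈ centralizer ((K : Subgroup G) : Set G) by
      haveI instF := Fintype.ofFinite {K : Subgroup G // Cfsg.IsComponent K}
      obtain ⟨e, he, h⟩ := hfin Finset.univ
      exact ⟨e, he, fun K hK => h ⟨K, hK⟩ (Finset.mem_univ _)⟩
    intro s
    induction s using Finset.induction with
    | empty => exact ⟨1, one_mem _, by simp⟩
    | @insert K s hKs ih =>
      obtain ⟨e, he, h⟩ := ih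
      have hel : Cfsg.layer G ≤ (K : Subgroup G) ⊔ centralizer ((K : Subgroup G) : Set G) := by
        refine Comp.layer_le fun L hL => ?_
        rcases Comp.component_eq_or_commute hL K.2 with h' | h'
        · rw [h']; exact le_sup_left
        · exact le_sup_of_le_right (Comp.le_centralizer_of_commutator_eq_bot h')
      have hmem : e⁻¹ * x ∈ (((K : Subgroup G) ⊔ centralizer ((K : Subgroup G) : Set G) :
          Subgroup G) : Set G) := mul_mem (inv_mem (hel he)) (hinner K K.2 hx)
      rw [coe_mul_of_right_le_normalizer_left _ _ (centralizer_le_normalizer _)] at hmem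
      obtain ⟨k', hk', c, hc, hck⟩ := hmem
      refine ⟨e * k', mul_mem he (Comp.component_le_layer K.2 hk'), fun L hL => ?_⟩
      have hval : (e * k')⁻¹ * x = c := by
        rw [mul_inv_rev, mul_assoc, ← hck, inv_mul_cancel_left]
      rcases Finset.mem_insert.1 hL with rfl | hL'
      · rw [hval]; exact hc
      · have hne : (K : Subgroup G) ≠ L := fun h' => hKs (Subtype.ext h' ▸ hL')
        rw [mul_inv_rev, mul_assoc]
        exact mul_mem (inv_mem (Comp.le_centralizer_of_commutator_eq_bot
          ((Comp.component_eq_or_commute K.2 L.2).resolve_left hne) hk')) (h L hL')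
  have hle : M ≤ Cfsg.layer G ⊔ centralizer (Cfsg.generalizedFittingSubgroup G : Set G) := by
    intro x hx
    obtain ⟨e, he, hc⟩ := hmain x hx
    rw [← mul_inv_cancel_left e x]
    refine mul_mem (mem_sup_left he) (mem_sup_right (mem_centralizer_iff.2 fun z hz => ?_))
    suffices Cfsg.generalizedFittingSubgroup G ≤ centralizer {e⁻¹ * x} from
      mem_centralizer_singleton_iff.1 (this hz)
    refine sup_le (Comp.layer_le fun K hK z hz => mem_centralizer_singleton_iff.2
      (mem_centralizer_iff.1 (hc K hK) z hz)) fun z hz => mem_centralizer_singleton_iff.2 ?_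
    exact mem_centralizer_iff.1 (mul_mem (inv_mem (Comp.layer_le_centralizer_fitting he)) (hF hx)) z hz
  haveI : (centralizer (Cfsg.generalizedFittingSubgroup G : Set G)).Normal := inferInstance
  rw [← hM]
  refine commutator_le.2 fun u hu v hv => ?_
  have hu' : u ∈ ((Cfsg.layer G ⊔ centralizer (Cfsg.generalizedFittingSubgroup G : Set G) : Subgroup G) : Set G) :=
    hle hu
  have hv' : v ∈ ((Cfsg.layer G ⊔ centralizer (Cfsg.generalizedFittingSubgroup G : Set G) : Subgroup G) : Set G) :=
    hle hv
  rw [mul_normal] at hu' hv'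
  obtain ⟨a, ha, c, hc, rfl⟩ := hu'
  obtain ⟨b, hb, d, hd, rfl⟩ := hv'
  have hcb : Commute c b := (mem_centralizer_iff.1 hc b (Comp.layer_le_Fstar hb)).symm
  have hcd : Commute c d := (mem_centralizer_iff.1 hd c (Comp.centralizer_Fstar_le hc))
  have hac : Commute a c := mem_centralizer_iff.1 hc a (Comp.layer_le_Fstar ha)
  have had : Commute a d := mem_centralizer_iff.1 hd a (Comp.layer_le_Fstar ha)
  rw [CompOrbit.commutator_mul_mul hac had hcb.symm (mem_centralizer_iff.1 hd b (Comp.layer_le_Fstar hb)),
    show ⁅c, d⁆ = 1 from commutatorElement_eq_one_iff_commute.2 hcd, mul_one]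
  exact CompOrbit.comm_mem ha hb

end

end CfsgLib.CoprimeLayer
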