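import Mathlib
import Cfsg.Agent.CoprimeLayer.Layer
import Cfsg.Agent.Comp.Fitting

/-!
The trichotomy for a quasisimple subgroup commuting with its other images under an automorphism of prime order
and the conjugations by its fixed elements.
-/

set_option autoImplicit false
set_option linter.style.haveILetI false
set_option linter.unusedSectionVars false

namespace CfsgLib.CoprimeLayer

open Subgroup CfsgLib.HHShult CfsgLib
open scoped commutatorElement Pointwise

universe u

variable {G : Type u} [Group G] [Finite G] {σ : MulAut G} {r : ℕ}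

/-- The automorphism together with the conjugations by its fixed elements. -/
def sym (σ : MulAut G) : Subgroup (MulAut G) :=
  zpowers σ ⊔ (fixedSubgroup σ).map (MulAut.conj : G →* MulAut G)

theorem self_mem_sym : σ ∈ sym σ := mem_sup_left (mem_zpowers σ)

theorem conj_mem_sym {c : G} (hc : σ c = c) : MulAut.conj c ∈ sym σ :=
  mem_sup_right (mem_map_of_mem _ hc)

theorem commute_of_mem_sym {φ : MulAut G} (hφ : φ ∈ sym σ) : Commute φ σ := by
  have h : sym σ ≤ centralizer ({σ} : Set (MulAut G)) := by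
    refine sup_le (zpowers_le.2 (mem_centralizer_singleton_iff.2 rfl)) ?_
    rintro _ ⟨c, hc, rfl⟩
    rw [mem_centralizer_singleton_iff]
    refine MulEquiv.ext fun x => ?_
    simp only [MulAut.mul_apply, MulAut.conj_apply, map_mul, map_inv]
    rw [show σ c = c from hc]
  exact (mem_centralizer_singleton_iff.1 (h hφ))

/-- A perfect stable subgroup with central displacements is fixed pointwise. -/
theorem fixed_of_displ_central {J : Subgroup G} (hJ : ⁅J, J⁆ = J) (hJs : Stable σ J)
    (h : ∀ x ∈ J, x⁻¹ * σ x ∈ centralizer (J : Set G)) : ∀ x ∈ J, σ x = x := by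
  have hle : ⁅J, J⁆ ≤ fixedSubgroup σ := commutator_le.2 fun a ha b hb => by
    have hc : ∀ x ∈ J, ∀ y ∈ J, Commute x (y⁻¹ * σ y) := fun x hx y hy => mem_centralizer_iff.1 (h y hy) x hx
    show σ ⁅a, b⁆ = ⁅a, b⁆
    have ha' : a⁻¹ * σ a ∈ J := mul_mem (inv_mem ha) (hJs a ha)
    rw [map_commutatorElement, show σ a = a * (a⁻¹ * σ a) by group, show σ b = b * (b⁻¹ * σ b) by group,
      CompOrbit.commutator_mul_mul (hc a ha a ha) (hc a ha b hb) (hc b hb a ha) (hc b hb b hb),
      commutatorElement_eq_one_iff_commute.2 (hc _ ha' b hb), mul_one]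
  exact fun x hx => hle (hJ.symm ▸ hx)

variable {K : Subgroup G}

/-- The images of a subgroup under the symmetries. -/
def Mem (σ : MulAut G) (K J : Subgroup G) : Prop := ∃ φ ∈ sym σ, J = K.map φ.toMonoidHom

theorem Mem.self : Mem σ K K := ⟨1, one_mem _, K.map_id.symm⟩

theorem Mem.map {J : Subgroup G} (h : Mem σ K J) {ψ : MulAut G} (hψ : ψ ∈ sym σ) :
    Mem σ K (J.map ψ.toMonoidHom) := by
  obtain ⟨φ, hφ, rfl⟩ := h
  exact ⟨ψ * φ, mul_mem hψ hφ, map_map K _ _⟩

/-- The subgroup generated by the images under the powers of the automorphism. -/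
def orb (σ : MulAut G) (J : Subgroup G) : Subgroup G := ⨆ i : ℕ, J.map (σ ^ i).toMonoidHom

theorem le_orb (J : Subgroup G) : J ≤ orb σ J := le_iSup_of_le 0 (by rw [pow_zero]; exact J.map_id.ge)

theorem orb_le_iff {J N : Subgroup G} : orb σ J ≤ N ↔ ∀ i : ℕ, J.map (σ ^ i).toMonoidHom ≤ N := iSup_le_iff

theorem stable_orb (J : Subgroup G) : Stable σ (orb σ J) := fun x hx => by
  have h : (orb σ J).map σ.toMonoidHom ≤ orb σ J := by
    rw [orb, Subgroup.map_iSup]
    exact iSup_le fun i => le_iSup_of_le (i + 1) (map_pow_succ i J).ge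
  exact h ⟨x, hx, rfl⟩

section setup

variable (hcop : CopAut σ r) (hq : Cfsg.IsQuasisimple ↥K)
  (hcomm : ∀ φ ∈ sym σ, K.map φ.toMonoidHom ≠ K → ⁅K, K.map φ.toMonoidHom⁆ = ⊥)
include hcop hq hcomm

theorem mem_quasisimple {J : Subgroup G} (hJ : Mem σ K J) : Cfsg.IsQuasisimple ↥J := by
  obtain ⟨φ, -, rfl⟩ := hJ
  exact Comp.isQuasisimple_of_equiv (K.equivMapOfInjective φ.toMonoidHom φ.injective) hq

theorem mem_perfect {J : Subgroup G} (hJ : Mem σ K J) : ⁅J, J⁆ = J :=
  Subgroup.isPerfect_iff.mp (mem_quasisimple hcop hq hcomm hJ).1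

theorem mem_commute {J J' : Subgroup G} (hJ : Mem σ K J) (hJ' : Mem σ K J') (hne : J ≠ J') :
    J ≤ centralizer (J' : Set G) := by
  obtain ⟨φ, hφ, rfl⟩ := hJ
  obtain ⟨ψ, hψ, rfl⟩ := hJ'
  have e : K.map ψ.toMonoidHom = (K.map (φ⁻¹ * ψ).toMonoidHom).map φ.toMonoidHom := by
    rw [map_map]
    refine congrArg (fun f : G →* G => K.map f) ?_
    ext x
    simp
  rw [e] at hne ⊢
  refine Comp.le_centralizer_of_commutator_eq_bot ?_
  rw [← map_commutator, hcomm _ (mul_mem (inv_mem hφ) hψ) fun h => hne (by rw [h]), Subgroup.map_bot]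

/-- A quasisimple image has only central proper normal subgroups. -/
theorem mem_inf_central {J N : Subgroup G} (hJ : Mem σ K J) (hn : J ≤ normalizer (N : Set G)) (hle : ¬ J ≤ N)
    {y : G} (hyJ : y ∈ J) (hyN : y ∈ N) : y ∈ centralizer (J : Set G) := by
  rcases Comp.quasisimple_normal (mem_quasisimple hcop hq hcomm hJ) (Comp.subgroupOf_normal_of_le_normalizer hn)
    with h | h
  · exact absurd (subgroupOf_eq_top.1 h) hle
  · have h1 : (⟨y, hyJ⟩ : J) ∈ center J := h hyN
    exact mem_centralizer_iff.2 fun z hz => congrArg Subtype.val (mem_center_iff.1 h1 ⟨z, hz⟩)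

/-- An element normalizing an image and lying in a subgroup not containing it centralizes it. -/
theorem centralizes_of_mem {J N : Subgroup G} (hJ : Mem σ K J) (hn : J ≤ normalizer (N : Set G)) (hle : ¬ J ≤ N)
    {z : G} (hz : z ∈ N) (hzJ : z ∈ normalizer (J : Set G)) : z ∈ centralizer (J : Set G) := by
  refine LocalBalance.centralizes_of_commutator_central (mem_perfect hcop hq hcomm hJ) hzJ fun y hy =>
    mem_inf_central hcop hq hcomm hJ hn hle (mul_mem ((mem_normalizer_iff.1 hzJ y).1 hy) (inv_mem hy)) ?_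
  rw [show z * y * z⁻¹ * y⁻¹ = z * (y * z⁻¹ * y⁻¹) by group]
  exact mul_mem hz ((mem_normalizer_iff.1 (hn hy) _).1 (inv_mem hz))

/-- A fixed element of a subgroup not containing the image centralizes it. -/
theorem fixed_centralizes {J N : Subgroup G} (hJ : Mem σ K J) (hn : J ≤ normalizer (N : Set G)) (hle : ¬ J ≤ N)
    {c : G} (hc : c ∈ N) (hσc : σ c = c) : c ∈ centralizer (J : Set G) := by
  refine centralizes_of_mem hcop hq hcomm hJ hn hle hc (mem_normalizer_iff_map_conj_eq.2 ?_)
  by_contra hne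
  refine hle ((mem_perfect hcop hq hcomm hJ).ge.trans (commutator_le.2 fun a ha b hb => ?_))
  have hb' : Commute (c * a * c⁻¹) b :=
    (mem_centralizer_iff.1 (mem_commute hcop hq hcomm (hJ.map (conj_mem_sym hσc)) hJ hne
      (⟨a, ha, rfl⟩ : c * a * c⁻¹ ∈ J.map (MulAut.conj c).toMonoidHom)) b hb).symm
  set n := a * c * a⁻¹ * c⁻¹ with hn'
  have hnN : n ∈ N := mul_mem ((mem_normalizer_iff.1 (hn ha) c).1 hc) (inv_mem hc)
  have e : ⁅a, b⁆ = n * (b * n⁻¹ * b⁻¹) := by
    calc ⁅a, b⁆ = n * ((c * a * c⁻¹) * b) * (c * a * c⁻¹)⁻¹ * n⁻¹ * b⁻¹ := by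
          rw [hn', commutatorElement_def]; group
      _ = n * (b * (c * a * c⁻¹)) * (c * a * c⁻¹)⁻¹ * n⁻¹ * b⁻¹ := by rw [hb'.eq]
      _ = _ := by group
  rw [e]
  exact mul_mem hnN ((mem_normalizer_iff.1 (hn hb) _).1 (inv_mem hnN))

variable (hmoved : ¬ ∀ x ∈ K, σ x = x)
include hmoved

theorem mem_moved_points {J : Subgroup G} (hJ : Mem σ K J) : ¬ ∀ x ∈ J, σ x = x := by
  obtain ⟨φ, hφ, rfl⟩ := hJ
  intro h
  refine hmoved fun x hx => φ.injective ?_
  have h1 : σ (φ x) = φ x := h _ ⟨x, hx, rfl⟩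
  rw [← MulAut.mul_apply, (commute_of_mem_sym hφ).eq, MulAut.mul_apply, h1]

theorem orb_perfect {J : Subgroup G} (hJ : Mem σ K J) : ⁅orb σ J, orb σ J⁆ = orb σ J := by
  refine le_antisymm (commutator_le.2 fun a ha b hb => CompOrbit.comm_mem ha hb) (orb_le_iff.2 fun i => ?_)
  have hle : J.map (σ ^ i).toMonoidHom ≤ orb σ J := le_iSup (fun i : ℕ => J.map (σ ^ i).toMonoidHom) i
  exact (mem_perfect hcop hq hcomm (hJ.map (pow_mem self_mem_sym i))).ge.trans (commutator_mono hle hle)

theorem moved_orb {J : Subgroup G} (hJ : Mem σ K J) : moved σ (orb σ J) = orb σ J := by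
  have hs := stable_orb (σ := σ) J
  have hJle : J ≤ moved σ (orb σ J) := by
    by_cases hfix : J.map σ.toMonoidHom = J
    · have hJs := stable_of_map_eq hfix
      by_contra hle
      refine mem_moved_points hcop hq hcomm hmoved hJ
        (fixed_of_displ_central (mem_perfect hcop hq hcomm hJ) hJs fun x hx =>
          mem_inf_central hcop hq hcomm hJ (le_normalizer_moved hJs)
            (fun h => hle (h.trans (moved_mono (le_orb J)))) (mul_mem (inv_mem hx) (hJs x hx)) (mem_moved hx))
    · refine (mem_perfect hcop hq hcomm hJ).ge.trans (commutator_le.2 fun a ha b hb => ?_)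
      have hz : b * σ b⁻¹ ∈ moved σ (orb σ J) := by
        have h0 := mem_moved (σ := σ) (le_orb (σ := σ) J (inv_mem hb))
        rwa [inv_inv] at h0
      have h1 : Commute a (σ b⁻¹) := mem_centralizer_iff.1 (mem_commute hcop hq hcomm (hJ.map self_mem_sym) hJ hfix
        (⟨b⁻¹, inv_mem hb, rfl⟩ : σ b⁻¹ ∈ J.map σ.toMonoidHom)) a ha
      have h2 := mul_mem ((mem_normalizer_iff.1 (le_normalizer_moved hs (le_orb J ha)) _).1 hz) (inv_mem hz)
      have e : a * (b * σ b⁻¹) * a⁻¹ * (b * σ b⁻¹)⁻¹ = ⁅a, b⁆ := by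
        calc a * (b * σ b⁻¹) * a⁻¹ * (b * σ b⁻¹)⁻¹ = a * b * (σ b⁻¹ * a⁻¹) * (σ b⁻¹)⁻¹ * b⁻¹ := by group
          _ = a * b * (a⁻¹ * σ b⁻¹) * (σ b⁻¹)⁻¹ * b⁻¹ := by rw [h1.inv_left.eq]
          _ = ⁅a, b⁆ := by rw [commutatorElement_def]; group
      rwa [e] at h2
  refine le_antisymm (moved_le hs) (orb_le_iff.2 fun i => ?_)
  rintro _ ⟨x, hx, rfl⟩
  exact (stable_moved hs).pow_mem i (hJle hx)

theorem orb_le_centralizer {J N : Subgroup G} (hJ : Mem σ K J) (hNs : Stable σ N)
    (hn : ∀ J' : Subgroup G, Mem σ K J' → J' ≤ normalizer (N : Set G)) (hle : ¬ J ≤ N) {c : G} (hc : c ∈ N)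
    (hσc : σ c = c) : ∀ m ∈ orb σ J, Commute m c := by
  have h : orb σ J ≤ centralizer {c} := by
    refine orb_le_iff.2 fun i => ?_
    have hJ' := hJ.map (pow_mem (self_mem_sym (σ := σ)) i)
    have hle' : ¬ J.map (σ ^ i).toMonoidHom ≤ N := fun h => hle fun x hx => by
      have h1 : (σ ^ i) x ∈ N := h ⟨x, hx, rfl⟩
      clear h
      induction i with
      | zero => exact h1
      | succ i ih =>
        rw [pow_succ', MulAut.mul_apply, hNs.mem_iff] at h1
        exact ih (hJ.map (pow_mem self_mem_sym i)) h1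
    intro x hx
    exact mem_centralizer_singleton_iff.2
      (mem_centralizer_iff.1 (fixed_centralizes hcop hq hcomm hJ' (hn _ hJ') hle' hc hσc) x hx)
  exact fun m hm => mem_centralizer_singleton_iff.1 (h hm)

theorem orb_le_centralizer_fitting {J : Subgroup G} (hJ : Mem σ K J) :
    orb σ J ≤ centralizer (Cfsg.fittingSubgroup G : Set G) := by
  rw [Comp.fitting_eq_iSup_pCore, Subgroup.le_centralizer_iff]
  refine iSup_le fun q => ?_
  haveI : Fact (q : ℕ).Prime := ⟨Nat.prime_of_mem_primeFactors q.2⟩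
  rw [Subgroup.le_centralizer_iff]
  have hP : IsPGroup (q : ℕ) (Cfsg.pCore (q : ℕ) G) := Solvable.isPGroup_pCore (q : ℕ)
  haveI : (Cfsg.pCore (q : ℕ) G).Characteristic := characteristic_iff_map_le.mpr fun φ =>
    Solvable.le_pCore (q : ℕ) (Subgroup.Normal.map inferInstance _ φ.surjective) (hP.map _)
  refine le_centralizer_of_fixed (p := (q : ℕ)) hcop (stable_orb J) (orb_perfect hcop hq hcomm hmoved hJ)
    (moved_orb hcop hq hcomm hmoved hJ) hP (Stable.of_char _) le_normalizer_of_normal ?_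
  intro x hx hσx m hm
  refine orb_le_centralizer hcop hq hcomm hmoved hJ (Stable.of_char _) (fun J' _ => le_normalizer_of_normal)
    (fun h => ?_) hx hσx m hm
  haveI := Comp.quasisimple_nontrivial (mem_quasisimple hcop hq hcomm hJ)
  exact (Subgroup.nontrivial_iff_ne_bot J).1 this
    (eq_bot_of_perfect_isPGroup (mem_perfect hcop hq hcomm hJ) (hP.to_le h))

/-- **Every moved image lies in the layer.** -/
theorem mem_le_layer {J : Subgroup G} (hJ : Mem σ K J) : J ≤ Cfsg.layer G := by
  by_contra hle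
  refine hle ((le_orb J).trans (le_layer hcop (stable_orb J) (fun x hx hσx =>
    orb_le_centralizer hcop hq hcomm hmoved hJ (Stable.of_char _) (fun J' _ => le_normalizer_of_normal) hle hx hσx)
    (orb_perfect hcop hq hcomm hmoved hJ) (moved_orb hcop hq hcomm hmoved hJ)
    (orb_le_centralizer_fitting hcop hq hcomm hmoved hJ)))

theorem mem_le_normalizer_component {J L : Subgroup G} (hJ : Mem σ K J) (hL : Cfsg.IsComponent L) :
    J ≤ normalizer (L : Set G) :=
  (mem_le_layer hcop hq hcomm hmoved hJ).trans (Comp.layer_le_normalizer_component hL)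

theorem mem_le_normalizer_centralizer {J L : Subgroup G} (hJ : Mem σ K J) (hL : Cfsg.IsComponent L) :
    J ≤ normalizer ((centralizer (L : Set G) : Subgroup G) : Set G) :=
  (mem_le_normalizer_component hcop hq hcomm hmoved hJ hL).trans (normalizer_le_normalizer_centralizer' L)

/-- A stable component is centralized by the subgroup or contains it. -/
theorem stable_dichotomy {L : Subgroup G} (hL : Cfsg.IsComponent L) (hLs : Stable σ L) :
    K ≤ centralizer (L : Set G) ∨ K ≤ L := by
  refine or_iff_not_imp_right.2 fun hle => ?_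
  have hn : ∀ J' : Subgroup G, Mem σ K J' → J' ≤ normalizer (L : Set G) :=
    fun J' hJ' => mem_le_normalizer_component hcop hq hcomm hmoved hJ' hL
  set M := orb σ K
  have hfix : ∀ c ∈ L, σ c = c → ∀ m ∈ M, Commute m c :=
    fun c hc hσc => orb_le_centralizer hcop hq hcomm hmoved Mem.self hLs hn hle hc hσc
  have hML : M ≤ Cfsg.layer G := orb_le_iff.2 fun i =>
    mem_le_layer hcop hq hcomm hmoved (Mem.self.map (pow_mem self_mem_sym i))
  have hMN : M ≤ normalizer (L : Set G) := hML.trans (Comp.layer_le_normalizer_component hL)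
  have hCs : Stable σ (centralizer (L : Set G)) := Stable.centralizer fun y hy z hz => hLs.mem_iff.1 (hz ▸ hy)
  obtain ⟨Q, _, _, τ, π, hcτ, -, hker, hπ⟩ := exists_section hcop hLs.normalizer hCs
    (normalizer_le_normalizer_centralizer' L)
  have hLN : L ≤ normalizer (L : Set G) := le_normalizer
  have hle' : img π M ≤ img π L := by
    rintro _ ⟨x, hx, rfl⟩
    obtain ⟨u, hu, c, hc, e⟩ := CompOrbit.decompose hL (hML (hx : (x : G) ∈ M))
    refine ⟨⟨u, hLN hu⟩, hu, ?_⟩
    have h1 : π ((⟨u, hLN hu⟩ : normalizer (L : Set G))⁻¹ * x) = 1 := (hker _).2 (by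
      show u⁻¹ * (x : G) ∈ _
      rw [show (x : G) = u * c from e, inv_mul_cancel_left]
      exact hc)
    rwa [map_mul, map_inv, inv_mul_eq_one] at h1
  have hbot : img π M = ⊥ := by
    refine eq_bot_of_fixed_central hcτ (img_stable hLs.normalizer hπ (stable_orb K))
      (img_perfect hMN (orb_perfect hcop hq hcomm hmoved Mem.self)) fun y hy hτy => ?_
    obtain ⟨c, hc, hσc, rfl⟩ := exists_fixed_lift hLs.normalizer hπ hcop hCs hker hLs hLN (hle' hy) hτy
    refine mem_centralizer_iff.2 ?_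
    rintro _ ⟨z, hz, rfl⟩
    rw [← map_mul, ← map_mul]
    exact congrArg π (Subtype.ext (hfix c hc hσc z hz).eq)
  intro x hx
  exact (hker ⟨x, hMN (le_orb K hx)⟩).1
    ((Subgroup.eq_bot_iff_forall _).1 hbot _ (mem_img_of _ (le_orb K hx)))

section movedComponent

variable {L : Subgroup G} (hL : Cfsg.IsComponent L) (hLm : L.map σ.toMonoidHom ≠ L)
include hL hLm

omit hmoved in
theorem diag_mem_normalizer {l : G} (hl : l ∈ L) : diag σ l r ∈ normalizer (L : Set G) := by
  rw [show diag σ l r = l * (l⁻¹ * diag σ l r) by group]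
  exact mul_mem (le_normalizer hl) (centralizer_le_normalizer _ (inv_mul_diag hcop hL hLm hl))

/-- An image not centralizing a moved component maps onto it. -/
theorem full {J : Subgroup G} (hJ : Mem σ K J) (hJL : ¬ J ≤ centralizer (L : Set G)) :
    L ≤ J ⊔ centralizer (L : Set G) := by
  set C := centralizer (L : Set G)
  have hnormal : ∀ A : Subgroup G, J ≤ A → L ≤ normalizer (((A ⊔ C) ⊓ L : Subgroup G) : Set G) → L ≤ A ⊔ C := by
    intro A hJA hn
    rcases Comp.quasisimple_normal hL.2 (Comp.subgroupOf_normal_of_le_normalizer hn) with h | h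
    · exact (subgroupOf_eq_top.1 h).trans inf_le_left
    · refine absurd (fun x hx => ?_) hJL
      obtain ⟨u, hu, c, hc, e⟩ := CompOrbit.decompose hL (mem_le_layer hcop hq hcomm hmoved hJ hx)
      have hu' : u ∈ A ⊔ C := by
        rw [show u = x * c⁻¹ by rw [e, mul_inv_cancel_right]]
        exact mul_mem (mem_sup_left (hJA hx)) (inv_mem (mem_sup_right hc))
      have h1 : (⟨u, hu⟩ : L) ∈ center L := h (show u ∈ (A ⊔ C) ⊓ L from ⟨hu', hu⟩)
      have h2 : u ∈ C := mem_centralizer_iff.2 fun z hz => congrArg Subtype.val (mem_center_iff.1 h1 ⟨z, hz⟩)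
      rw [e]
      exact mul_mem h2 hc
  set E := ⨆ J' : {J' : Subgroup G // Mem σ K J'}, (J' : Subgroup G)
  have hEfix : ∀ c, σ c = c → c ∈ normalizer (E : Set G) := fun c hc => by
    refine mem_normalizer_iff_map_conj_eq.2 (Subgroup.eq_of_le_of_card_ge ?_
      (Subgroup.card_map_of_injective (MulEquiv.injective _)).ge)
    rw [Subgroup.map_iSup]
    exact iSup_le fun J' => le_iSup_of_le (⟨_, J'.2.map (conj_mem_sym hc)⟩ : {J' : Subgroup G // Mem σ K J'}) le_rfl
  have hLE : L ≤ E ⊔ C := by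
    refine hnormal E (le_iSup_of_le (⟨J, hJ⟩ : {J' : Subgroup G // Mem σ K J'}) le_rfl) ?_
    refine (le_inf (fun l hl => ?_) le_normalizer).trans inf_normalizer_le_normalizer_inf
    rw [show l = diag σ l r * (l⁻¹ * diag σ l r)⁻¹ by group]
    refine mul_mem (Fusion_normalizer_sup ?_ ?_) (le_normalizer (mem_sup_right (inv_mem (inv_mul_diag hcop hL hLm hl))))
    · exact hEfix _ (apply_diag_self hcop hL hLm hl)
    · exact normalizer_le_normalizer_centralizer' L (diag_mem_normalizer hcop hq hcomm hL hLm hl)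
  refine hnormal J le_rfl (hLE.trans (sup_le (iSup_le fun J' => ?_) ?_))
  · refine (le_inf (fun x hx => Fusion_normalizer_sup ?_
      (mem_le_normalizer_centralizer hcop hq hcomm hmoved J'.2 hL hx))
      (mem_le_normalizer_component hcop hq hcomm hmoved J'.2 hL)).trans inf_normalizer_le_normalizer_inf
    by_cases h : (J' : Subgroup G) = J
    · exact le_normalizer (h ▸ hx)
    · exact centralizer_le_normalizer _ (mem_commute hcop hq hcomm J'.2 hJ h hx)
  · exact (le_inf (le_sup_right.trans le_normalizer) (centralizer_le_normalizer _)).trans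
      inf_normalizer_le_normalizer_inf
where
  Fusion_normalizer_sup {A B : Subgroup G} {g : G} (hA : g ∈ normalizer (A : Set G))
      (hB : g ∈ normalizer (B : Set G)) : g ∈ normalizer ((A ⊔ B : Subgroup G) : Set G) := by
    rw [mem_normalizer_iff_map_conj_eq, Subgroup.map_sup, mem_normalizer_iff_map_conj_eq.1 hA,
      mem_normalizer_iff_map_conj_eq.1 hB]

/-- At most one image maps onto a moved component. -/
theorem unique_full {J J' : Subgroup G} (hJ : Mem σ K J) (hJ' : Mem σ K J') (h : ¬ J ≤ centralizer (L : Set G))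
    (h' : ¬ J' ≤ centralizer (L : Set G)) : J = J' := by
  by_contra hne
  have hc := mem_commute hcop hq hcomm hJ hJ' hne
  refine Comp.component_not_comm hL ?_
  rw [← Comp.component_perfect hL]
  refine commutator_eq_bot_iff_le_centralizer.2 ((commutator_le.2 fun a ha b hb => ?_))
  have ha' : a ∈ ((J ⊔ centralizer (L : Set G) : Subgroup G) : Set G) := full hcop hq hcomm hmoved hL hLm hJ h ha
  have hb' : b ∈ ((J' ⊔ centralizer (L : Set G) : Subgroup G) : Set G) := full hcop hq hcomm hmoved hL hLm hJ' h' hb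
  rw [coe_mul_of_left_le_normalizer_right _ _ (mem_le_normalizer_centralizer hcop hq hcomm hmoved hJ hL)] at ha'
  rw [coe_mul_of_left_le_normalizer_right _ _ (mem_le_normalizer_centralizer hcop hq hcomm hmoved hJ' hL)] at hb'
  obtain ⟨x, hx, c, hc1, e1⟩ := ha'
  obtain ⟨y, hy, d, hd1, e2⟩ := hb'
  have hxy : Commute x y := (mem_centralizer_iff.1 (hc hx) y hy).symm
  have hnx := mem_le_normalizer_centralizer hcop hq hcomm hmoved hJ hL hx
  have hny := mem_le_normalizer_centralizer hcop hq hcomm hmoved hJ' hL hy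
  have hcomL : ⁅a, b⁆ ∈ centralizer (L : Set G) := by
    rw [← e1, ← e2]
    have e : ⁅x * c, y * d⁆
        = (x * c * x⁻¹) * ((x * y) * (d * c⁻¹) * (x * y)⁻¹) * (y * d⁻¹ * y⁻¹) := by
      have h3 : x * y * x⁻¹ = y := by rw [hxy.eq, mul_inv_cancel_right]
      calc ⁅x * c, y * d⁆ = (x * c * x⁻¹) * ((x * y) * (d * c⁻¹) * (x * y)⁻¹) * ((x * y * x⁻¹) * d⁻¹ * y⁻¹) := by
            rw [commutatorElement_def]; group
        _ = _ := by rw [h3]
    rw [e]
    exact mul_mem (mul_mem ((mem_normalizer_iff.1 hnx _).1 hc1)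
      ((mem_normalizer_iff.1 (mul_mem hnx hny) _).1 (mul_mem hd1 (inv_mem hc1))))
      ((mem_normalizer_iff.1 hny _).1 (inv_mem hd1))
  rw [Comp.component_perfect hL]
  exact hcomL

theorem diag_normalizes {J : Subgroup G} (hJ : Mem σ K J) (h : ¬ J ≤ centralizer (L : Set G)) {l : G} (hl : l ∈ L) :
    diag σ l r ∈ normalizer (J : Set G) := by
  refine mem_normalizer_iff_map_conj_eq.2 (unique_full hcop hq hcomm hmoved hL hLm
    (hJ.map (conj_mem_sym (apply_diag_self hcop hL hLm hl))) hJ (fun hle => h fun x hx => ?_) h)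
  exact (mem_normalizer_iff.1 (normalizer_le_normalizer_centralizer' L
    (diag_mem_normalizer hcop hq hcomm hL hLm hl)) x).2 (hle ⟨x, hx, rfl⟩)

/-- An element and the diagonal of its projection agree on the image. -/
theorem inv_mul_diag_centralizes {J : Subgroup G} (hJ : Mem σ K J) (h : ¬ J ≤ centralizer (L : Set G)) {k l : G}
    (hk : k ∈ J) (hl : l ∈ L) (hkl : l⁻¹ * k ∈ centralizer (L : Set G)) :
    k⁻¹ * diag σ l r ∈ centralizer (J : Set G) := by
  refine centralizes_of_mem hcop hq hcomm hJ (mem_le_normalizer_centralizer hcop hq hcomm hmoved hJ hL) h ?_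
    (mul_mem (le_normalizer (inv_mem hk)) (diag_normalizes hcop hq hcomm hmoved hL hLm hJ h hl))
  rw [show k⁻¹ * diag σ l r = (l⁻¹ * k)⁻¹ * (l⁻¹ * diag σ l r) by group]
  exact mul_mem (inv_mem hkl) (inv_mul_diag hcop hL hLm hl)

/-- What centralizes an image mapping onto a component centralizes the component. -/
theorem transfer {J : Subgroup G} (hJ : Mem σ K J) (h : ¬ J ≤ centralizer (L : Set G)) {w : G}
    (hw : w ∈ centralizer (J : Set G)) (hwL : w ∈ normalizer (L : Set G)) : w ∈ centralizer (L : Set G) := by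
  refine LocalBalance.centralizes_of_commutator_central (Comp.component_perfect hL) hwL fun b hb => ?_
  have hb' : b ∈ ((J ⊔ centralizer (L : Set G) : Subgroup G) : Set G) := full hcop hq hcomm hmoved hL hLm hJ h hb
  rw [coe_mul_of_left_le_normalizer_right _ _ (mem_le_normalizer_centralizer hcop hq hcomm hmoved hJ hL)] at hb'
  obtain ⟨y, hy, c, hc, rfl⟩ := hb'
  have e : w * (y * c) * w⁻¹ * (y * c)⁻¹ = y * (w * c * w⁻¹ * c⁻¹) * y⁻¹ := by
    have h1 : y * w = w * y := mem_centralizer_iff.1 hw y hy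
    calc w * (y * c) * w⁻¹ * (y * c)⁻¹ = (w * y) * c * w⁻¹ * c⁻¹ * y⁻¹ := by group
      _ = (y * w) * c * w⁻¹ * c⁻¹ * y⁻¹ := by rw [h1]
      _ = _ := by group
  rw [e]
  exact (mem_normalizer_iff.1 (mem_le_normalizer_centralizer hcop hq hcomm hmoved hJ hL hy) _).1
    (mul_mem ((mem_normalizer_iff.1 (normalizer_le_normalizer_centralizer' L hwL) c).1 hc) (inv_mem hc))

end movedComponent

/-- A subgroup not centralizing a moved component centralizes every other component. -/
theorem centralizes_other {L : Subgroup G} (hL : Cfsg.IsComponent L) (hLm : L.map σ.toMonoidHom ≠ L)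
    (hKL : ¬ K ≤ centralizer (L : Set G)) {L' : Subgroup G} (hL' : Cfsg.IsComponent L') (hne : L' ≠ L) :
    K ≤ centralizer (L' : Set G) := by
  have houtside : ∀ L' : Subgroup G, Cfsg.IsComponent L' → (∀ i : ℕ, L.map (σ ^ i).toMonoidHom ≠ L') →
      K ≤ centralizer (L' : Set G) := by
    intro L' hL' hout
    have hLL' : L' ≠ L := fun e => hout 0 (by rw [pow_zero]; exact L.map_id.trans e.symm)
    by_cases hs : L'.map σ.toMonoidHom = L'
    · refine (stable_dichotomy hcop hq hcomm hmoved hL' (stable_of_map_eq hs)).resolve_right fun hKL' => hKL ?_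
      exact hKL'.trans (Comp.le_centralizer_of_commutator_eq_bot
        ((Comp.component_eq_or_commute hL' hL).resolve_left hLL'))
    by_contra hKL'
    have hout' : ∀ i : ℕ, L'.map (σ ^ i).toMonoidHom ≠ L := by
      intro i hi
      refine hout (r * (i + 1) - i) ?_
      rw [← hi, map_map]
      show L'.map ((σ ^ (r * (i + 1) - i)).toMonoidHom.comp _) = L'
      conv_rhs => rw [← L'.map_id]
      refine congrArg (fun f : G →* G => L'.map f) ?_
      ext x
      show ((σ ^ (r * (i + 1) - i)) * σ ^ i) x = x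
      rw [← pow_add, Nat.sub_add_cancel (by
        have := Nat.le_mul_of_pos_left (i + 1) hcop.prime.pos
        omega), pow_mul, hcop.pow_eq, one_pow]
      rfl
    refine Comp.component_not_comm hL' (commutator_eq_bot_iff_le_centralizer.2 fun l hl => ?_)
    have hdL : diag σ l r ∈ centralizer (L : Set G) := commute_diag_of_ne hcop hL' hs hL hout' hl
    have hdK : diag σ l r ∈ centralizer (K : Set G) :=
      centralizes_of_mem hcop hq hcomm Mem.self (mem_le_normalizer_centralizer hcop hq hcomm hmoved Mem.self hL) hKL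
        hdL (diag_normalizes hcop hq hcomm hmoved hL' hs Mem.self hKL' hl)
    have h1 := transfer hcop hq hcomm hmoved hL' hs Mem.self hKL' hdK (diag_mem_normalizer hcop hq hcomm hL' hs hl)
    rw [show l = diag σ l r * (l⁻¹ * diag σ l r)⁻¹ by group]
    exact mul_mem h1 (inv_mem (inv_mul_diag hcop hL' hs hl))
  by_contra hKL'
  by_cases hout : ∀ i : ℕ, L.map (σ ^ i).toMonoidHom ≠ L'
  · exact hKL' (houtside L' hL' hout)
  push Not at hout
  obtain ⟨i, rfl⟩ := hout
  -- the subgroup is stable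
  have hi : ¬ r ∣ i := fun hd => hne (by
    obtain ⟨k, rfl⟩ := hd
    rw [pow_mul, hcop.pow_eq, one_pow]
    exact L.map_id)
  have hLim : (L.map (σ ^ i).toMonoidHom).map σ.toMonoidHom ≠ L.map (σ ^ i).toMonoidHom := by
    intro h
    refine hLm (map_injective (f := (σ ^ i).toMonoidHom) (σ ^ i).injective ?_)
    rw [map_map, ← h, map_map]
    refine congrArg (fun f : G →* G => L.map f) ?_
    ext x
    show (σ ^ i * σ) x = (σ * σ ^ i) x
    rw [← pow_succ, ← pow_succ']
  have hKK : K.map (σ ^ i).toMonoidHom = K := by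
    refine unique_full hcop hq hcomm hmoved hL' hLim (Mem.self.map (pow_mem self_mem_sym i)) Mem.self
      (fun hle => hKL fun x hx => mem_centralizer_iff.2 fun y hy => (σ ^ i).injective ?_) hKL'
    rw [map_mul, map_mul]
    exact mem_centralizer_iff.1 (hle ⟨x, hx, rfl⟩) _ ⟨y, hy, rfl⟩
  have hKfix : K.map σ.toMonoidHom = K := by
    by_contra hKm
    refine map_pow_ne hcop hKm (i := i % r) (Nat.pos_of_ne_zero fun e => hi (Nat.dvd_of_mod_eq_zero e))
      (Nat.mod_lt _ hcop.prime.pos) ?_
    rw [← pow_mod_eq hcop, hKK]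
  have hKs := stable_of_map_eq hKfix
  refine hmoved (fixed_of_displ_central (mem_perfect hcop hq hcomm Mem.self) hKs fun k hk => ?_)
  obtain ⟨l, hl, c, hc, hkl⟩ := CompOrbit.decompose hL (mem_le_layer hcop hq hcomm hmoved Mem.self hk)
  have hkl' : l⁻¹ * k ∈ centralizer (L : Set G) := by rw [hkl, inv_mul_cancel_left]; exact hc
  have hz := inv_mul_diag_centralizes hcop hq hcomm hmoved hL hLm Mem.self hKL hk hl hkl'
  have hnot : ∀ j : ℕ, ¬ K ≤ centralizer ((L.map (σ ^ j).toMonoidHom : Subgroup G) : Set G) := by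
    intro j hle
    refine hKL fun x hx => mem_centralizer_iff.2 fun y hy => (σ ^ j).injective ?_
    rw [map_mul, map_mul]
    exact mem_centralizer_iff.1 (hle (hKs.pow_mem j hx)) _ ⟨y, hy, rfl⟩
  -- the element read in every member of the orbit
  have hread : ∀ j : ℕ, k⁻¹ * (σ ^ j) l ∈ centralizer ((L.map (σ ^ j).toMonoidHom : Subgroup G) : Set G) := by
    intro j
    have hcompj := component_pow (σ := σ) j hL
    have hjm : (L.map (σ ^ j).toMonoidHom).map σ.toMonoidHom ≠ L.map (σ ^ j).toMonoidHom := by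
      intro h
      refine hLm (map_injective (f := (σ ^ j).toMonoidHom) (σ ^ j).injective ?_)
      rw [map_map, ← h, map_map]
      refine congrArg (fun f : G →* G => L.map f) ?_
      ext x
      show (σ ^ j * σ) x = (σ * σ ^ j) x
      rw [← pow_succ, ← pow_succ']
    have hd := inv_mul_diag_pow hcop hL hLm j hl
    have hdn : diag σ l r ∈ normalizer ((L.map (σ ^ j).toMonoidHom : Subgroup G) : Set G) := by
      rw [show diag σ l r = (σ ^ j) l * (((σ ^ j) l)⁻¹ * diag σ l r) by group]
      exact mul_mem (le_normalizer ⟨l, hl, rfl⟩) (centralizer_le_normalizer _ hd)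
    have h1 := transfer hcop hq hcomm hmoved hcompj hjm Mem.self (hnot j) hz
      (mul_mem (mem_le_normalizer_component hcop hq hcomm hmoved Mem.self hcompj (inv_mem hk)) hdn)
    rw [show k⁻¹ * (σ ^ j) l = (k⁻¹ * diag σ l r) * (((σ ^ j) l)⁻¹ * diag σ l r)⁻¹ by group]
    exact mul_mem h1 (inv_mem hd)
  have hlayer : Cfsg.layer G ≤ centralizer {k⁻¹ * σ k} := by
    refine Comp.layer_le fun L2 hL2 y hy => mem_centralizer_singleton_iff.2 ?_
    by_cases hout : ∀ j : ℕ, L.map (σ ^ j).toMonoidHom ≠ L2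
    · exact mem_centralizer_iff.1 (mul_mem (inv_mem (houtside L2 hL2 hout hk)) (houtside L2 hL2 hout (hKs k hk))) y hy
    push Not at hout
    obtain ⟨j, rfl⟩ := hout
    set j' := j % r + r - 1
    have hr := hcop.prime.pos
    have e : σ ^ j = σ ^ (j' + 1) := by
      rw [show j' + 1 = j % r + r by omega, pow_add, hcop.pow_eq, mul_one, ← pow_mod_eq hcop]
    rw [e] at hy
    have h1 := hread (j' + 1)
    have h2 : (σ k)⁻¹ * (σ ^ (j' + 1)) l ∈ centralizer ((L.map (σ ^ (j' + 1)).toMonoidHom : Subgroup G) : Set G) := by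
      have h3 := hread j'
      rw [mem_centralizer_iff] at h3 ⊢
      rintro _ ⟨x, hx, rfl⟩
      have h4 := congrArg σ (h3 _ ⟨x, hx, rfl⟩)
      show (σ ^ (j' + 1)) x * _ = _ * (σ ^ (j' + 1)) x
      rw [pow_succ', MulAut.mul_apply, MulAut.mul_apply]
      simpa [map_mul, map_inv] using h4
    have h5 := mul_mem h1 (inv_mem h2)
    rw [show k⁻¹ * (σ ^ (j' + 1)) l * ((σ k)⁻¹ * (σ ^ (j' + 1)) l)⁻¹ = k⁻¹ * σ k by group] at h5
    exact mem_centralizer_iff.1 h5 y hy
  exact mem_centralizer_iff.2 fun y hy =>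
    mem_centralizer_singleton_iff.1 (hlayer (mem_le_layer hcop hq hcomm hmoved Mem.self hy))

/-- **A moved subgroup is a component or lies in a stable component.** -/
theorem component_or_le_stable :
    Cfsg.IsComponent K ∨ ∃ L : Subgroup G, Cfsg.IsComponent L ∧ Stable σ L ∧ K ≤ L := by
  have hKlay : K ≤ Cfsg.layer G := mem_le_layer hcop hq hcomm hmoved Mem.self
  have hKperf : ⁅K, K⁆ = K := mem_perfect hcop hq hcomm Mem.self
  obtain ⟨L, hL, hKL⟩ : ∃ L : Subgroup G, Cfsg.IsComponent L ∧ ¬ K ≤ centralizer (L : Set G) := by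
    by_contra hcon
    push Not at hcon
    haveI := Comp.quasisimple_nontrivial hq
    refine (Subgroup.nontrivial_iff_ne_bot K).1 this (hKperf.symm.trans (commutator_eq_bot_iff_le_centralizer.2 ?_))
    exact Subgroup.le_centralizer_iff.1 (hKlay.trans (Comp.layer_le fun L hL => Subgroup.le_centralizer_iff.1 (hcon L hL)))
  by_cases hLs : L.map σ.toMonoidHom = L
  · exact Or.inr ⟨L, hL, stable_of_map_eq hLs,
      (stable_dichotomy hcop hq hcomm hmoved hL (stable_of_map_eq hLs)).resolve_left hKL⟩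
  left
  have hKle : K ≤ L := by
    rw [← hKperf]
    refine commutator_le.2 fun a ha b hb => ?_
    have hsplit : ∀ k ∈ K, ∃ u ∈ L, ∃ c ∈ Cfsg.layer G, c ∈ centralizer (Cfsg.layer G : Set G) ∧ k = u * c := by
      intro k hk
      obtain ⟨u, hu, c, hc, e⟩ := CompOrbit.decompose hL (hKlay hk)
      have hcl : c ∈ Cfsg.layer G := by
        rw [show c = u⁻¹ * k by rw [e, inv_mul_cancel_left]]
        exact mul_mem (inv_mem (Comp.component_le_layer hL hu)) (hKlay hk)
      refine ⟨u, hu, c, hcl, ?_, e⟩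
      have : Cfsg.layer G ≤ centralizer {c} := by
        refine Comp.layer_le fun L2 hL2 y hy => mem_centralizer_singleton_iff.2 ?_
        by_cases h : L2 = L
        · exact mem_centralizer_iff.1 hc y (h ▸ hy)
        · refine mem_centralizer_iff.1 ?_ y hy
          rw [show c = u⁻¹ * k by rw [e, inv_mul_cancel_left]]
          exact mul_mem (inv_mem (Comp.le_centralizer_of_commutator_eq_bot
            ((Comp.component_eq_or_commute hL hL2).resolve_left (Ne.symm h)) hu))
            (centralizes_other hcop hq hcomm hmoved hL hLs hKL hL2 h hk)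
      exact mem_centralizer_iff.2 fun y hy => mem_centralizer_singleton_iff.1 (this hy)
    obtain ⟨u, hu, c, hcl, hc, rfl⟩ := hsplit a ha
    obtain ⟨v, hv, d, hdl, hd, rfl⟩ := hsplit b hb
    have hu' := Comp.component_le_layer hL hu
    have hv' := Comp.component_le_layer hL hv
    rw [CompOrbit.commutator_mul_mul (mem_centralizer_iff.1 hc u hu') (mem_centralizer_iff.1 hd u hu')
      (mem_centralizer_iff.1 hc v hv') (mem_centralizer_iff.1 hd v hv'),
      commutatorElement_eq_one_iff_commute.2 (mem_centralizer_iff.1 hd c hcl), mul_one]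
    exact CompOrbit.comm_mem hu hv
  suffices h : L ≤ K by
    rw [le_antisymm hKle h]
    exact hL
  rw [← Comp.component_perfect hL]
  refine commutator_le.2 fun a ha b hb => ?_
  have hsplit : ∀ x ∈ L, ∃ k ∈ K, ∃ c, c ∈ L ∧ c ∈ centralizer (L : Set G) ∧ x = k * c := by
    intro x hx
    have hx' : x ∈ ((K ⊔ centralizer (L : Set G) : Subgroup G) : Set G) :=
      full hcop hq hcomm hmoved hL hLs Mem.self hKL hx
    rw [coe_mul_of_left_le_normalizer_right _ _ (mem_le_normalizer_centralizer hcop hq hcomm hmoved Mem.self hL)] at hx'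
    obtain ⟨k, hk, c, hc, rfl⟩ := hx'
    exact ⟨k, hk, c, by simpa using mul_mem (inv_mem (hKle hk)) hx, hc, rfl⟩
  obtain ⟨k, hk, c, hcL, hc, rfl⟩ := hsplit a ha
  obtain ⟨k', hk', d, hdL, hd, rfl⟩ := hsplit b hb
  rw [CompOrbit.commutator_mul_mul (mem_centralizer_iff.1 hc k (hKle hk)) (mem_centralizer_iff.1 hd k (hKle hk))
    (mem_centralizer_iff.1 hc k' (hKle hk')) (mem_centralizer_iff.1 hd k' (hKle hk')),
    commutatorElement_eq_one_iff_commute.2 (mem_centralizer_iff.1 hd c hcL), mul_one]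
  exact CompOrbit.comm_mem hk hk'

end setup

end CfsgLib.CoprimeLayer
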