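import Mathlib
import Cfsg.Agent.CoprimeLayer.Trichotomy

/-!
A subgroup of prime order acting coprimely by conjugation, as an automorphism.
-/

set_option autoImplicit false
set_option linter.style.haveILetI false
set_option linter.unusedSectionVars false

namespace CfsgLib.CoprimeLayer

open Subgroup CfsgLib.HHShult CfsgLib
open scoped commutatorElement

universe u

variable {X : Type u} [Group X] [Finite X]

/-- Conjugation by a generator of a subgroup of prime order normalizing a subgroup of coprime order. -/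
theorem exists_setup (G R : Subgroup X) (r : ℕ) (hr : r.Prime) (hR : Nat.card ↥R = r)
    (hcop : (Nat.card ↥G).Coprime r) (hnorm : R ≤ normalizer (G : Set X)) :
    ∃ σ : MulAut G, CopAut σ r ∧ (∀ c : G, σ c = c ↔ (c : X) ∈ centralizer (R : Set X)) ∧
      (∀ φ ∈ sym σ, ∃ g ∈ R ⊔ (G ⊓ centralizer (R : Set X)), ∀ x : G, ((φ x : G) : X) = g * x * g⁻¹) ∧
      ∀ a ∈ R, ∃ n : ℕ, ∀ x : G, (((σ ^ n) x : G) : X) = a * x * a⁻¹ := by
  classical
  haveI := Fact.mk hr
  haveI : IsCyclic R := isCyclic_of_prime_card hR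
  obtain ⟨⟨g, hgR⟩, hgen⟩ := IsCyclic.exists_generator (α := R)
  have hRz : ∀ x ∈ R, ∃ n : ℕ, g ^ n = x := fun x hx => by
    obtain ⟨n, hn⟩ := (Submonoid.mem_powers_iff _ _).1 (mem_powers_iff_mem_zpowers.2 (hgen ⟨x, hx⟩))
    exact ⟨n, congrArg Subtype.val hn⟩
  have hgr : g ^ r = 1 := by
    have h1 := pow_card_eq_one' (G := R) (x := ⟨g, hgR⟩)
    rw [hR] at h1
    exact congrArg Subtype.val h1
  let σ : MulAut G := G.normalizerMonoidHom ⟨g, hnorm hgR⟩
  have hσ : ∀ x : G, ((σ x : G) : X) = g * x * g⁻¹ := fun x => rfl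
  have hσn : ∀ (n : ℕ) (x : G), (((σ ^ n) x : G) : X) = g ^ n * x * (g ^ n)⁻¹ := fun n x => by
    rw [← map_pow]; rfl
  have hcent : ∀ c : G, σ c = c ↔ (c : X) ∈ centralizer (R : Set X) := by
    intro c
    refine ⟨fun hc => mem_centralizer_iff.2 fun a ha => ?_, fun hc => Subtype.ext ?_⟩
    · obtain ⟨n, rfl⟩ := hRz a ha
      have h1 := congrArg Subtype.val (pow_apply_fixed hc n)
      rw [hσn] at h1
      exact mul_inv_eq_iff_eq_mul.1 h1
    · rw [hσ, mem_centralizer_iff.1 hc g hgR, mul_inv_cancel_right]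
  refine ⟨σ, ⟨hr, MulEquiv.ext fun x => Subtype.ext (by rw [hσn, hgr]; simp),
    fun hd => (hr.coprime_iff_not_dvd.1 hcop.symm) hd⟩, hcent, ?_, fun a ha => ?_⟩
  · intro φ hφ
    let S : Subgroup (MulAut G) :=
      { carrier := {φ | ∃ h ∈ R ⊔ (G ⊓ centralizer (R : Set X)), ∀ x : G, ((φ x : G) : X) = h * x * h⁻¹}
        one_mem' := ⟨1, one_mem _, fun x => by simp⟩
        mul_mem' := fun {a b} ⟨u, hu, ha⟩ ⟨v, hv, hb⟩ => ⟨u * v, mul_mem hu hv, fun x => by
          rw [MulAut.mul_apply, ha, hb]; group⟩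
        inv_mem' := fun {a} ⟨u, hu, ha⟩ => ⟨u⁻¹, inv_mem hu, fun x => by
          have h1 := ha (a⁻¹ x)
          rw [MulAut.apply_inv_self] at h1
          rw [h1]; group⟩ }
    have hle : sym σ ≤ S := by
      refine sup_le (zpowers_le.2 ⟨g, mem_sup_left hgR, hσ⟩) ?_
      rintro _ ⟨c, hc, rfl⟩
      exact ⟨c, mem_sup_right ⟨c.2, (hcent c).1 hc⟩, fun x => rfl⟩
    exact hle hφ
  · obtain ⟨n, rfl⟩ := hRz a ha
    exact ⟨n, hσn n⟩

/-- The hypothesis on the images, transported to the subgroup. -/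
theorem hcomm_subgroupOf {G R K : Subgroup X} {σ : MulAut G} (hKG : K ≤ G)
    (hsym : ∀ φ ∈ sym σ, ∃ g ∈ R ⊔ (G ⊓ centralizer (R : Set X)), ∀ x : G, ((φ x : G) : X) = g * x * g⁻¹)
    (hcomm : ∀ g ∈ R ⊔ (G ⊓ centralizer (R : Set X)), K.map (MulAut.conj g).toMonoidHom ≠ K →
      ⁅K, K.map (MulAut.conj g).toMonoidHom⁆ = ⊥) :
    ∀ φ ∈ sym σ, (K.subgroupOf G).map φ.toMonoidHom ≠ K.subgroupOf G →
      ⁅K.subgroupOf G, (K.subgroupOf G).map φ.toMonoidHom⁆ = ⊥ := by
  intro φ hφ hne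
  obtain ⟨g, hg, hφg⟩ := hsym φ hφ
  have hmap : ((K.subgroupOf G).map φ.toMonoidHom).map G.subtype = K.map (MulAut.conj g).toMonoidHom := by
    conv_rhs => rw [← map_subgroupOf_eq_of_le hKG]
    rw [map_map, map_map]
    exact congrArg (fun f : G →* X => (K.subgroupOf G).map f) (MonoidHom.ext fun x => hφg x)
  refine map_injective G.subtype_injective ?_
  rw [map_commutator, hmap, map_subgroupOf_eq_of_le hKG, Subgroup.map_bot]
  refine hcomm g hg fun e => hne (map_injective G.subtype_injective ?_)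
  rw [hmap, e, map_subgroupOf_eq_of_le hKG]

/-- A quasisimple subgroup commuting with its other conjugates is subnormal. -/
theorem isSubnormal_of_commuting {C : Type u} [Group C] [Finite C] {K : Subgroup C}
    (h : ∀ c : C, K.map (MulAut.conj c).toMonoidHom ≠ K → ⁅K, K.map (MulAut.conj c).toMonoidHom⁆ = ⊥) :
    K.IsSubnormal := by
  set N := normalClosure (K : Set C)
  have hKN : K ≤ N := le_normalClosure
  have hNK : N ≤ normalizer (K : Set C) := by
    refine (closure_le _).2 fun y hy => ?_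
    obtain ⟨x, hx, hxy⟩ := Group.mem_conjugatesOfSet_iff.1 hy
    obtain ⟨c, rfl⟩ := isConj_iff.1 hxy
    by_cases e : K.map (MulAut.conj c).toMonoidHom = K
    · exact le_normalizer (e.le ⟨x, hx, rfl⟩)
    · have h1 := h c e
      rw [commutator_comm] at h1
      exact centralizer_le_normalizer _ (Comp.le_centralizer_of_commutator_eq_bot h1 ⟨x, hx, rfl⟩)
  haveI : N.Normal := normalClosure_normal
  exact IsSubnormal.trans hKN (Comp.subgroupOf_normal_of_le_normalizer hNK).isSubnormal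
    (Normal.isSubnormal inferInstance)

/-- **The trichotomy.** -/
theorem trichotomy (G R : Subgroup X) (r : ℕ) (hr : r.Prime) (hR : Nat.card ↥R = r) (hcop : (Nat.card ↥G).Coprime r)
    (hnorm : R ≤ normalizer (G : Set X)) (K : Subgroup X) (hKG : K ≤ G) (hKq : Cfsg.IsQuasisimple ↥K)
    (hcomm : ∀ g ∈ R ⊔ (G ⊓ centralizer (R : Set X)), K.map (MulAut.conj g).toMonoidHom ≠ K →
      ⁅K, K.map (MulAut.conj g).toMonoidHom⁆ = ⊥) :
    (K ≤ G ⊓ centralizer (R : Set X) ∧ Cfsg.IsComponent (K.subgroupOf (G ⊓ centralizer (R : Set X)))) ∨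
      Cfsg.IsComponent (K.subgroupOf G) ∨
      ∃ L : Subgroup X, L ≤ G ∧ Cfsg.IsComponent (L.subgroupOf G) ∧
        (∀ a ∈ R, L.map (MulAut.conj a).toMonoidHom = L) ∧ K ≤ L := by
  obtain ⟨σ, hσ, hfix, hsym, hRσ⟩ := exists_setup G R r hr hR hcop hnorm
  by_cases hmov : ∀ x ∈ K.subgroupOf G, σ x = x
  · left
    have hKC : K ≤ G ⊓ centralizer (R : Set X) := fun x hx =>
      ⟨hKG hx, (hfix ⟨x, hKG hx⟩).1 (hmov ⟨x, hKG hx⟩ hx)⟩
    refine ⟨hKC, ?_, Comp.isQuasisimple_of_equiv (subgroupOfEquivOfLe hKC).symm hKq⟩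
    refine isSubnormal_of_commuting fun c hne => ?_
    have hmap : ((K.subgroupOf (G ⊓ centralizer (R : Set X))).map (MulAut.conj c).toMonoidHom).map
        (G ⊓ centralizer (R : Set X)).subtype = K.map (MulAut.conj (c : X)).toMonoidHom := by
      conv_rhs => rw [← map_subgroupOf_eq_of_le hKC]
      rw [map_map, map_map]
      rfl
    refine map_injective (G ⊓ centralizer (R : Set X)).subtype_injective ?_
    rw [map_commutator, hmap, map_subgroupOf_eq_of_le hKC, Subgroup.map_bot]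
    refine hcomm c (mem_sup_right c.2) fun e => hne (map_injective (G ⊓ centralizer (R : Set X)).subtype_injective ?_)
    rw [hmap, e, map_subgroupOf_eq_of_le hKC]
  · right
    rcases component_or_le_stable hσ (Comp.isQuasisimple_of_equiv (subgroupOfEquivOfLe hKG).symm hKq)
      (hcomm_subgroupOf hKG hsym hcomm) hmov with h | ⟨L, hL, hLs, hKL⟩
    · exact Or.inl h
    · refine Or.inr ⟨L.map G.subtype, map_subtype_le L, ?_, fun a ha => ?_, ?_⟩
      · rwa [show (L.map G.subtype).subgroupOf G = L from comap_map_eq_self_of_injective G.subtype_injective L]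
      · obtain ⟨n, hn⟩ := hRσ a ha
        refine Subgroup.eq_of_le_of_card_ge ?_ (Subgroup.card_map_of_injective (MulEquiv.injective _)).ge
        rintro _ ⟨_, ⟨x, hx, rfl⟩, rfl⟩
        exact ⟨(σ ^ n) x, hLs.pow_mem n hx, hn x⟩
      · intro x hx
        exact ⟨⟨x, hKG hx⟩, hKL hx, rfl⟩

/-- **The layer of a subgroup of displacements.** -/
theorem layer_le_layer (G R : Subgroup X) (r : ℕ) (hr : r.Prime) (hR : Nat.card ↥R = r)
    (hcop : (Nat.card ↥G).Coprime r) (hnorm : R ≤ normalizer (G : Set X)) (H : Subgroup X) (hHG : H ≤ G)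
    (hHinv : R ⊔ (G ⊓ centralizer (R : Set X)) ≤ normalizer (H : Set X)) (hHR : ⁅H, R⁆ = H) :
    (Cfsg.layer ↥H).map H.subtype ≤ (Cfsg.layer ↥G).map G.subtype := by
  classical
  obtain ⟨σ, hσ, hfix, hsym, -⟩ := exists_setup G R r hr hR hcop hnorm
  -- moved components lie in the layer
  have hmov : ∀ K0 : Subgroup H, Cfsg.IsComponent K0 → ¬ (K0.map H.subtype ≤ centralizer (R : Set X)) →
      K0.map H.subtype ≤ (Cfsg.layer ↥G).map G.subtype := by
    intro K0 hK0 hne
    set K := K0.map H.subtype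
    have hKH : K ≤ H := map_subtype_le _
    have hKG : K ≤ G := hKH.trans hHG
    have hKq : Cfsg.IsQuasisimple ↥(K.subgroupOf G) := Comp.isQuasisimple_of_equiv
      ((K0.equivMapOfInjective H.subtype H.subtype_injective).trans (subgroupOfEquivOfLe hKG).symm) hK0.2
    have hcomm : ∀ g ∈ R ⊔ (G ⊓ centralizer (R : Set X)), K.map (MulAut.conj g).toMonoidHom ≠ K →
        ⁅K, K.map (MulAut.conj g).toMonoidHom⁆ = ⊥ := by
      intro g hg hgne
      let ψ : MulAut H := H.normalizerMonoidHom ⟨g, hHinv hg⟩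
      have hmap : (K0.map ψ.toMonoidHom).map H.subtype = K.map (MulAut.conj g).toMonoidHom := by
        rw [map_map, map_map]
        rfl
      rcases Comp.component_eq_or_commute hK0 (Comp.component_map_equiv ψ hK0) with h | h
      · exact absurd (by rw [← hmap, ← h]) hgne
      · rw [← hmap, ← map_commutator, h, Subgroup.map_bot]
    have h1 := mem_le_layer hσ hKq (hcomm_subgroupOf hKG hsym hcomm)
      (fun h => hne fun x hx => (hfix ⟨x, hKG hx⟩).1 (h ⟨x, hKG hx⟩ hx)) Mem.self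
    rw [← map_subgroupOf_eq_of_le hKG]
    exact map_mono h1
  refine map_le_iff_le_comap.2 (Comp.layer_le fun K0 hK0 => map_le_iff_le_comap.1 ?_)
  obtain ⟨h, hh⟩ : ∃ h : H, ¬ ((K0.map (MulAut.conj h).toMonoidHom).map H.subtype ≤ centralizer (R : Set X)) := by
    by_contra hcon
    push Not at hcon
    have hH : H ≤ centralizer ((K0.map H.subtype : Subgroup X) : Set X) := by
      refine hHR.ge.trans (commutator_le.2 fun h hh a ha => ?_)
      refine mem_centralizer_iff.2 ?_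
      rintro _ ⟨k, hk, rfl⟩
      have h1 : a * (k : X) = (k : X) * a :=
        mem_centralizer_iff.1 (hcon 1 ⟨(k : H), ⟨k, hk, by simp⟩, rfl⟩) a ha
      have h2 : a * (h⁻¹ * (k : X) * h) = (h⁻¹ * (k : X) * h) * a := by
        have := mem_centralizer_iff.1 (hcon (⟨h, hh⟩ : H)⁻¹ ⟨_, ⟨k, hk, rfl⟩, rfl⟩) a ha
        simpa using this
      calc (k : X) * (h * a * h⁻¹ * a⁻¹) = h * ((h⁻¹ * (k : X) * h) * a) * h⁻¹ * a⁻¹ := by group
        _ = h * (a * (h⁻¹ * (k : X) * h)) * h⁻¹ * a⁻¹ := by rw [h2]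
        _ = h * a * h⁻¹ * ((k : X) * a⁻¹) := by group
        _ = h * a * h⁻¹ * (a⁻¹ * (k : X)) := by rw [(show Commute a (k : X) from h1).inv_left.eq]
        _ = (h * a * h⁻¹ * a⁻¹) * (k : X) := by group
    refine Comp.component_not_comm hK0 (commutator_eq_bot_iff_le_centralizer.2 fun x hx => ?_)
    exact mem_centralizer_iff.2 fun y hy =>
      Subtype.ext (mem_centralizer_iff.1 (hH x.2) (y : X) ⟨y, hy, rfl⟩)
  rintro _ ⟨k, hk, rfl⟩
  obtain ⟨z, hz, e⟩ := hmov _ (Comp.component_conj h hK0) hh ⟨_, ⟨k, hk, rfl⟩, rfl⟩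
  set hg : G := ⟨(h : X), hHG h.2⟩
  refine ⟨hg⁻¹ * z * hg, by simpa using (inferInstance : (Cfsg.layer ↥G).Normal).conj_mem z hz hg⁻¹, ?_⟩
  have e' : (z : X) = (h : X) * (k : X) * (h : X)⁻¹ := e
  show (h : X)⁻¹ * (z : X) * (h : X) = (k : X)
  rw [e']; group

end CfsgLib.CoprimeLayer
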